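import Cfsg.Agent.Lib.FischerUnique.Hexad
import Cfsg.Agent.Lib.FischerType.M22
import Cfsg.Agent.Lib.FischerType.Unique

set_option autoImplicit false

/-! In type M(22) the link of a member generates a perfect double cover of the unitary group, and
the whole group is simple. -/

namespace CfsgLib.FischerUnique

open Subgroup
open CfsgLib.ThreeTrans (link commute_conj_iff' conj_self_of_commute conj_conj_eq mul_self inv_eq)
open CfsgLib.FischerType
open scoped commutatorElement

theorem closure_link_le_centralizer {G : Type*} [Group G] {D : Set G} {d : G} :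
    closure (link D d) ≤ centralizer {d} :=
  (closure_le _).2 fun e he => mem_centralizer_singleton_iff.2 he.2.2.eq.symm

variable {G : Type*} [Group G] [Finite G] {D : Set G}

/-- The data of type M(22) at one member. -/
theorem exists_data_of_typeM22 (S : Setting D) (h : Cfsg.IsOfTypeM22 G D) :
    ∃ d ∈ D, (∃ u ∈ link D d, ∃ v ∈ link D d, ¬ Commute u v) ∧ Setting (img D d) ∧
      ∃ (F : Type) (_ : Field F) (_ : Fintype F), Fintype.card F = 4 ∧
        Nonempty (Quot D d ≃* Cfsg.PSU 6 F 2) := by
  obtain ⟨-, d, hd, c, hc, hdc, ⟨F, i1, i2, hF, ⟨e⟩⟩, c₃, hc₃, hproj⟩ := h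
  have hs : IsSimpleGroup (Quot D d) := isSimpleGroup_of_psu hF e
  obtain ⟨u, hu, v, hv, huv⟩ := pair_of_nontrivial (D := D) (d := d) hs.toNontrivial
  have hnc : ¬ Commute (toImg D d hu) (toImg D d hv) := fun h =>
    huv (commute_of_toImg S.cls.1 hu hv h)
  have : Fact (Nat.Prime 2) := ⟨Nat.prime_two⟩
  have : Fact (Nat.Prime 3) := ⟨Nat.prime_three⟩
  have hZ : center (Quot D d) = ⊥ :=
    (IsSimpleGroup.eq_bot_or_eq_top_of_normal _ inferInstance).resolve_right fun htop => hnc
      (mem_center_iff.1 (htop ▸ mem_top (toImg D d hv) : toImg D d hv ∈ center _) (toImg D d hu))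
  exact ⟨d, hd, ⟨u, hu, v, hv, huv⟩, S.quotSetting hd hc hdc ⟨u, hu, v, hv, huv⟩
    (not_solvable_of_isProj (by norm_num) hc₃ hproj)
    (pCore_link_le_of_quot (pCore_eq_bot_of_simple 2 hs hnc))
    (pCore_link_le_of_quot (pCore_eq_bot_of_simple 3 hs hnc)) hZ, F, i1, i2, hF, ⟨e⟩⟩

variable (S : Setting D)

include S

/-- An element fixing a member and its link is `1` or that member. -/
theorem eq_one_or_eq_of_fix_link (hl : HasLines D) {d w : G} (hd : d ∈ D) (hw : w ∈ link D d)
    {z : G} (hzd : Commute z d) (hz : ∀ t ∈ link D d, Commute z t) : z = 1 ∨ z = d := by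
  have hset := S.cls.1
  obtain ⟨-, hconj, hgen⟩ := CfsgLib.ThreeTransp.class_to_group S.cls
  have key : ∀ y ∈ D, ¬ Commute d y → z * y * z⁻¹ = y ∨ z * y * z⁻¹ = d * y * d := by
    intro y hy hdy
    rcases hl d hd y hy hdy (z * y * z⁻¹) (hconj z y hy) (fun t ht => by
      rw [← conj_self_of_commute (hz t ht.1)]
      exact (commute_conj_iff' z y t).2 ht.2.2.2) with h | h | h
    · exfalso
      rw [← conj_self_of_commute hzd] at h
      exact hdy (by rw [mul_left_cancel (mul_right_cancel h)])
    · exact Or.inl h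
    · exact Or.inr h
  have hzz : ∀ y ∈ D, z * (z * y * z⁻¹) * z⁻¹ = y := by
    intro y hy
    by_cases hdy : Commute d y
    · have h1 : Commute z y := by
        by_cases hyd : y = d
        · exact hyd ▸ hzd
        · exact hz y ⟨hy, hyd, hdy⟩
      rw [conj_self_of_commute h1, conj_self_of_commute h1]
    · rcases key y hy hdy with h | h <;> rw [h]
      · exact h
      · calc z * (d * y * d) * z⁻¹ = (z * d * z⁻¹) * (z * y * z⁻¹) * (z * d * z⁻¹) := by group
          _ = d * (d * y * d) * d := by rw [h, conj_self_of_commute hzd]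
          _ = (d * d) * y * (d * d) := by simp only [mul_assoc]
          _ = y := by rw [mul_self hset hd, one_mul, mul_one]
  have hsym : Sym D fun y => z * y * z⁻¹ :=
    ⟨fun a ha => hconj z a ha, hzz, fun a _ b _ => by group⟩
  have hcen : ∀ x : G, (∀ y ∈ D, x * y * x⁻¹ = y) → x = 1 := by
    intro x hx
    rw [← mem_bot, ← S.center_bot, mem_center_iff]
    have hle : closure D ≤ centralizer {x} :=
      (closure_le _).2 fun y hy => mem_centralizer_singleton_iff.2 (mul_inv_eq_iff_eq_mul.1 (hx y hy)).symm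
    exact fun g => mem_centralizer_singleton_iff.1 (hle (hgen ▸ mem_top g))
  rcases S.extend hl hsym hd hw (conj_self_of_commute hzd) (fun t ht => conj_self_of_commute (hz t ht))
    with h | h
  · exact Or.inl (hcen z h)
  · refine Or.inr ?_
    have h1 : d⁻¹ * z = 1 := hcen _ fun y hy => by
      have e : d⁻¹ * z * y * (d⁻¹ * z)⁻¹ = d * (z * y * z⁻¹) * d := by
        rw [mul_inv_rev, inv_eq hset hd]; simp only [inv_inv, mul_assoc]; rw [inv_eq hset hd]
      rw [e]
      by_cases hdy : Commute d y
      · have h2 : Commute z y := by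
          by_cases hyd : y = d
          · exact hyd ▸ hzd
          · exact hz y ⟨hy, hyd, hdy⟩
        rw [conj_self_of_commute h2]
        exact (conj_eq_self_iff hset hd).2 hdy
      · rw [h y hy hdy]
        calc d * (d * y * d) * d = (d * d) * y * (d * d) := by simp only [mul_assoc]
          _ = y := by rw [mul_self hset hd, one_mul, mul_one]
    exact (inv_mul_eq_one.1 h1).symm

/-- The centre of the link group is generated by the member. -/
theorem center_link_le (hl : HasLines D) {d w : G} (hd : d ∈ D) (hw : w ∈ link D d)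
    {z : ↥(closure (link D d))} (hz : z ∈ center ↥(closure (link D d))) :
    (z : G) = 1 ∨ (z : G) = d :=
  eq_one_or_eq_of_fix_link S hl hd hw (mem_centralizer_singleton_iff.1 (closure_link_le_centralizer z.2))
    fun t ht => (congrArg Subtype.val (mem_center_iff.1 hz ⟨t, subset_closure ht⟩)).symm

/-- In type M(22) the link group contains its member and is perfect. -/
theorem mem_closure_link_and_perfect (h : Cfsg.IsOfTypeM22 G D) :
    ∃ d ∈ D, IsSimpleGroup (Quot D d) ∧ d ∈ closure (link D d) ∧
      commutator ↥(closure (link D d)) = ⊤ := by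
  have hl := (S.good_of_typeM22 h).lines
  obtain ⟨d, hd, hpair, SX, F, i1, i2, hF, ⟨e⟩⟩ := exists_data_of_typeM22 S h
  refine ⟨d, hd, isSimpleGroup_of_psu hF e, ?_⟩
  have hF' : Fintype.card F = 2 ^ 2 := hF.trans (by norm_num)
  obtain ⟨hset, hconj, -⟩ := CfsgLib.ThreeTransp.class_to_group S.cls
  have hnc := S.noCentral hd hpair
  have hs := isSimpleGroup_of_psu hF e
  have hE := U6.eq_tv_class hF' (class_image e (S.imgClass hd hpair))
  obtain ⟨A, B, C, P, Q, R, P', Q', R', hmem, hcomm, nABC, nPQR, nPQR', nP, nP', nPP, hone, hone'⟩ :=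
    exists_two_hexads hF'
  have up : ∀ x ∈ [A, B, C, P, Q, R, P', Q', R'],
      ∃ (w : G) (hw : w ∈ link D d), e (toImg D d hw) = x := by
    intro x hx
    have h1 : x ∈ e '' img D d := by rw [hE]; exact hmem x hx
    obtain ⟨q, hq, rfl⟩ := h1
    obtain ⟨w, hw, rfl⟩ := exists_toImg hq
    exact ⟨w, hw, rfl⟩
  obtain ⟨a, ha, rfl⟩ := up A (by simp)
  obtain ⟨b, hb, rfl⟩ := up B (by simp)
  obtain ⟨c, hc, rfl⟩ := up C (by simp)
  obtain ⟨p, hp, rfl⟩ := up P (by simp)
  obtain ⟨q, hq, rfl⟩ := up Q (by simp)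
  obtain ⟨r, hr, rfl⟩ := up R (by simp)
  obtain ⟨p', hp', rfl⟩ := up P' (by simp)
  obtain ⟨q', hq', rfl⟩ := up Q' (by simp)
  obtain ⟨r', hr', rfl⟩ := up R' (by simp)
  have ne : ∀ {u v} {hu : u ∈ link D d} {hv : v ∈ link D d},
      e (toImg D d hu) ≠ e (toImg D d hv) → u ≠ v := fun h h' => h (by subst h'; rfl)
  have cm : ∀ {u v} (hu : u ∈ link D d) (hv : v ∈ link D d),
      e (toImg D d hu) ∈ [e (toImg D d ha), e (toImg D d hb), e (toImg D d hc), e (toImg D d hp),
        e (toImg D d hq), e (toImg D d hr), e (toImg D d hp'), e (toImg D d hq'), e (toImg D d hr')] →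
      e (toImg D d hv) ∈ [e (toImg D d ha), e (toImg D d hb), e (toImg D d hc), e (toImg D d hp),
        e (toImg D d hq), e (toImg D d hr), e (toImg D d hp'), e (toImg D d hq'), e (toImg D d hr')] →
      Commute u v := fun hu hv h1 h2 =>
    commute_of_toImg hset hu hv ((commute_map_iff e.injective).1 (hcomm _ h1 _ h2))
  simp only [List.nodup_cons, List.mem_cons, List.not_mem_nil, or_false, not_or, List.nodup_nil,
    and_true, not_false_eq_true] at nABC nPQR nPQR' nP nP' nPP
  set H := closure (link D d) with hH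
  have hsix : ∀ {x y z : G} (hx : x ∈ link D d) (hy : y ∈ link D d) (hz : z ∈ link D d),
      e (toImg D d ha) * e (toImg D d hb) * e (toImg D d hc) * e (toImg D d hx) *
        e (toImg D d hy) * e (toImg D d hz) = 1 →
      a * b * c * x * y * z = 1 ∨ a * b * c * x * y * z = d := by
    intro x y z hx hy hz he
    have hz' : (⟨a, subset_closure ha⟩ * ⟨b, subset_closure hb⟩ * ⟨c, subset_closure hc⟩ *
        ⟨x, subset_closure hx⟩ * ⟨y, subset_closure hy⟩ * ⟨z, subset_closure hz⟩ : ↥H) ∈ center ↥H := by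
      rw [← QuotientGroup.eq_one_iff]
      simp only [QuotientGroup.mk_mul]
      refine e.injective ?_
      simpa only [map_mul, map_one] using he
    exact center_link_le S hl hd ha hz'
  have six := hsix hp hq hr hone
  have six' := hsix hp' hq' hr' hone'
  have hin : ∀ {x y z : G}, x ∈ link D d → y ∈ link D d → z ∈ link D d →
      a * b * c * x * y * z ∈ H := fun hx hy hz =>
    mul_mem (mul_mem (mul_mem (mul_mem (mul_mem (subset_closure ha) (subset_closure hb))
      (subset_closure hc)) (subset_closure hx)) (subset_closure hy)) (subset_closure hz)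
  have hdH : d ∈ H := by
    rcases six with h1 | h1
    · have hlp : ∀ {x : G}, x ∈ link D d → p ≠ x → Commute p x → x ∈ closure (link D p) :=
        fun hx hne hc => subset_closure ⟨hx.1, hne.symm, hc⟩
      have hpH : p ∈ closure (link D p) := by
        have cpa := cm hp ha (by simp) (by simp)
        have cpb := cm hp hb (by simp) (by simp)
        have cpc := cm hp hc (by simp) (by simp)
        have h5 : p * (a * b * c * q * r) = 1 := by
          calc p * (a * b * c * q * r) = p * (a * b * c) * q * r := by simp only [mul_assoc]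
            _ = a * b * c * p * q * r := by rw [((cpa.mul_right cpb).mul_right cpc).eq]
            _ = 1 := h1
        suffices hm : a * b * c * q * r ∈ closure (link D p) by
          have h6 := inv_mem hm
          rwa [← eq_inv_of_mul_eq_one_left h5] at h6
        refine (mul_mem (mul_mem (mul_mem (mul_mem ?_ ?_) ?_) ?_) ?_)
        · exact hlp ha (ne nP.1) cpa
        · exact hlp hb (ne nP.2.1) cpb
        · exact hlp hc (ne nP.2.2) cpc
        · exact hlp hq (ne nPQR.1.1) (cm hp hq (by simp) (by simp))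
        · exact hlp hr (ne nPQR.1.2) (cm hp hr (by simp) (by simp))
      obtain ⟨g, hg⟩ := CfsgLib.ThreeTransp.class_conj S.cls hp.1 hd
      have h2 : g * p * g⁻¹ ∈ (closure (link D p)).map (MulAut.conj g).toMonoidHom := ⟨p, hpH, rfl⟩
      have h3 : (MulAut.conj g).toMonoidHom '' link D p = link D d := by
        rw [← hg, ← CfsgLib.ThreeTrans.link_conj S.cls]; rfl
      rw [MonoidHom.map_closure, h3, hg] at h2
      exact h2
    · rw [← h1]; exact hin hp hq hr
  refine ⟨hdH, ?_⟩
  by_contra hne
  set K := commutator ↥H with hK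
  have hsq : ∀ {x : G} (hx : x ∈ link D d),
      (QuotientGroup.mk (⟨x, subset_closure hx⟩ : ↥H) : ↥H ⧸ K) =
        QuotientGroup.mk (⟨a, subset_closure ha⟩ : ↥H) := by
    intro x hx
    obtain ⟨k, hk, hkx⟩ := S.exists_conj_link hd ha hx
    rw [QuotientGroup.eq]
    have e1 : (⟨x, subset_closure hx⟩ : ↥H)⁻¹ * ⟨a, subset_closure ha⟩ =
        ⁅(⟨k, hk⟩ : ↥H), ⟨a, subset_closure ha⟩⁆ := by
      refine Subtype.ext ?_
      simp only [commutatorElement_def, Subgroup.coe_mul, Subgroup.coe_inv, ← hkx,
        inv_eq hset ha.1, mul_inv_rev, inv_inv, mul_assoc]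
    rw [e1, hK, commutator_def]
    exact commutator_mem_commutator (mem_top _) (mem_top _)
  have hKd : (⟨d, hdH⟩ : ↥H) ∉ K := by
    intro hdK
    refine hne (top_le_iff.1 ?_)
    have hnab : ¬ ∀ x y : Quot D d, x * y = y * x := fun h => by
      obtain ⟨u, hu, v, hv, huv⟩ := hpair
      exact huv (commute_of_toImg hset hu hv (h _ _))
    have hmap : K.map (QuotientGroup.mk' (center ↥H)) = ⊤ := by
      rw [hK, commutator_def, map_commutator,
        Subgroup.map_top_of_surjective _ (QuotientGroup.mk'_surjective _), ← commutator_def]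
      refine (hs.eq_bot_or_eq_top_of_normal _ inferInstance).resolve_left fun hb => hnab fun x y => ?_
      have h1 : ⁅x, y⁆ ∈ commutator (Quot D d) := by
        rw [commutator_def]; exact commutator_mem_commutator (mem_top _) (mem_top _)
      rw [hb, mem_bot, commutatorElement_eq_one_iff_commute] at h1
      exact h1
    intro x _
    obtain ⟨k, hk, hkx⟩ : QuotientGroup.mk' (center ↥H) x ∈ K.map (QuotientGroup.mk' (center ↥H)) := by
      rw [hmap]; exact mem_top _
    have h1 : k⁻¹ * x ∈ center ↥H := QuotientGroup.eq.1 hkx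
    have h2 : k⁻¹ * x ∈ K := by
      rcases center_link_le S hl hd ha h1 with h | h
      · rw [show k⁻¹ * x = 1 from Subtype.ext h]; exact one_mem K
      · rw [show k⁻¹ * x = ⟨d, hdH⟩ from Subtype.ext h]; exact hdK
    simpa using mul_mem hk h2
  have hodd : ∀ {x y z : G}, x ∈ link D d → y ∈ link D d → z ∈ link D d →
      a * b * c * x * y * z ≠ d := by
    intro x y z hx hy hz he
    refine hKd ?_
    rw [show (⟨d, hdH⟩ : ↥H) = ⟨a, subset_closure ha⟩ * ⟨b, subset_closure hb⟩ *
      ⟨c, subset_closure hc⟩ * ⟨x, subset_closure hx⟩ * ⟨y, subset_closure hy⟩ *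
      ⟨z, subset_closure hz⟩ from Subtype.ext he.symm, ← QuotientGroup.eq_one_iff]
    simp only [QuotientGroup.mk_mul, hsq hb, hsq hc, hsq hx, hsq hy, hsq hz]
    have h2 : (QuotientGroup.mk (⟨a, subset_closure ha⟩ : ↥H) : ↥H ⧸ K) *
        QuotientGroup.mk (⟨a, subset_closure ha⟩ : ↥H) = 1 := by
      rw [← QuotientGroup.mk_mul, ← QuotientGroup.mk_one]
      exact congrArg _ (Subtype.ext (mul_self hset ha.1))
    rw [h2, one_mul, mul_assoc, h2, one_mul]
  have hpqr := six.resolve_right (hodd hp hq hr)
  have hpqr' := six'.resolve_right (hodd hp' hq' hr')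
  have hb' : b ∈ link D a := ⟨hb.1, (ne nABC.1.1).symm, cm ha hb (by simp) (by simp)⟩
  have hc' : c ∈ link D a := ⟨hc.1, (ne nABC.1.2).symm, cm ha hc (by simp) (by simp)⟩
  have hcb : c ∈ link D b := ⟨hc.1, (ne nABC.2).symm, cm hb hc (by simp) (by simp)⟩
  obtain ⟨x, y, z, -, -, -, hR, -⟩ := S.exists_partner hd hpair SX hF e ha.1 hb' hc' hcb
  have sq3 : ∀ {s t u : G}, s ∈ D → t ∈ D → u ∈ D → Commute s t → Commute s u → Commute t u →
      s * t * u * (s * t * u) = 1 := by
    intro s t u hs ht hu cst csu ctu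
    calc s * t * u * (s * t * u) = (s * t) * (s * t) * (u * u) :=
          (csu.mul_left ctu).symm.mul_mul_mul_comm _ _
      _ = (s * s) * (t * t) * (u * u) := by rw [cst.symm.mul_mul_mul_comm]
      _ = 1 := by rw [mul_self hset hs, mul_self hset ht, mul_self hset hu, one_mul, one_mul]
  have hprod : ∀ {s t u : G}, a * b * c * s * t * u = 1 → s * t * u = a * b * c := by
    intro s t u h1
    have h2 : (a * b * c) * (s * t * u) = 1 := by rw [← h1]; group
    refine (eq_inv_of_mul_eq_one_right h2).trans (inv_eq_of_mul_eq_one_right ?_)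
    exact sq3 ha.1 hb.1 hc.1 (cm ha hb (by simp) (by simp)) (cm ha hc (by simp) (by simp))
      (cm hb hc (by simp) (by simp))
  have alt := S.triple_alternatives ha.1 hb' hc' hcb hR hp.1 hq.1 hr.1 (ne nPQR.1.1) (ne nPQR.1.2)
    (ne nPQR.2) (cm hp hq (by simp) (by simp)) (cm hp hr (by simp) (by simp))
    (cm hq hr (by simp) (by simp)) (hprod hpqr)
  have alt' := S.triple_alternatives ha.1 hb' hc' hcb hR hp'.1 hq'.1 hr'.1 (ne nPQR'.1.1)
    (ne nPQR'.1.2) (ne nPQR'.2) (cm hp' hq' (by simp) (by simp)) (cm hp' hr' (by simp) (by simp))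
    (cm hq' hr' (by simp) (by simp)) (hprod hpqr')
  rcases alt with h1 | h1
  · rcases List.mem_cons.1 ((h1 p).1 (by simp)) with rfl | h2
    · exact nP.1 rfl
    · simp only [List.mem_cons, List.not_mem_nil, or_false] at h2
      rcases h2 with rfl | rfl
      · exact nP.2.1 rfl
      · exact nP.2.2 rfl
  rcases alt' with h1' | h1'
  · rcases List.mem_cons.1 ((h1' p').1 (by simp)) with rfl | h2
    · exact nP'.1 rfl
    · simp only [List.mem_cons, List.not_mem_nil, or_false] at h2
      rcases h2 with rfl | rfl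
      · exact nP'.2.1 rfl
      · exact nP'.2.2 rfl
  have hm := (h1' p).2 ((h1 p).1 (by simp))
  simp only [List.mem_cons, List.not_mem_nil, or_false] at hm
  rcases hm with rfl | rfl | rfl
  · exact nPP.1 rfl
  · exact nPP.2.1 rfl
  · exact nPP.2.2 rfl

end CfsgLib.FischerUnique
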