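import Cfsg.Agent.Lib.FischerUnique.Perfect

set_option autoImplicit false

/-! Groups of type M(22) are simple and their link groups quasisimple. -/

namespace CfsgLib.FischerUnique

open Subgroup
open CfsgLib.ThreeTrans (link commute_conj_iff' mul_self inv_eq)
open CfsgLib.FischerType

variable {G : Type*} [Group G] [Finite G] {D : Set G} (S : Setting D)

include S

/-- In type M(22) the link group of any member is quasisimple with centre generated by it. -/
theorem link_group_of_typeM22 (h : Cfsg.IsOfTypeM22 G D) {d : G} (hd : d ∈ D) :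
    d ∈ closure (link D d) ∧ Cfsg.IsQuasisimple ↥(closure (link D d)) ∧
      center ↥(closure (link D d)) = (zpowers d).subgroupOf (closure (link D d)) := by
  have hl := (S.good_of_typeM22 h).lines
  obtain ⟨a, ha, hs, haH, hperf⟩ := mem_closure_link_and_perfect S h
  obtain ⟨g, hg⟩ := CfsgLib.ThreeTransp.class_conj S.cls ha hd
  have himg : (MulAut.conj g).toMonoidHom '' link D a = link D d := by
    rw [← hg, ← CfsgLib.ThreeTrans.link_conj S.cls]; rfl
  have hmap : (closure (link D a)).map (MulAut.conj g).toMonoidHom = closure (link D d) := by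
    rw [MonoidHom.map_closure, himg]
  let e := ((closure (link D a)).equivMapOfInjective (MulAut.conj g).toMonoidHom
    (MulAut.conj g).injective).trans (MulEquiv.subgroupCongr hmap)
  have hdH : d ∈ closure (link D d) := by
    rw [← hmap]; exact ⟨a, haH, hg⟩
  have hperf' : commutator ↥(closure (link D d)) = ⊤ := by
    rw [commutator_def] at hperf ⊢
    rw [← Subgroup.map_top_of_surjective e.toMonoidHom e.surjective, ← Subgroup.map_commutator, hperf]
  have hcen : (center ↥(closure (link D a))).map e.toMonoidHom = center ↥(closure (link D d)) := by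
    refine le_antisymm ?_ fun x hx => ?_
    · rintro _ ⟨x, hx, rfl⟩
      refine mem_center_iff.2 fun y => ?_
      obtain ⟨y, rfl⟩ := e.surjective y
      show e y * e x = e x * e y
      rw [← map_mul, ← map_mul, mem_center_iff.1 hx y]
    · refine ⟨e.symm x, mem_center_iff.2 fun y => e.injective ?_, e.apply_symm_apply x⟩
      rw [map_mul, map_mul, e.apply_symm_apply, mem_center_iff.1 hx (e y)]
  let eq' : Quot D a ≃* Quot D d := QuotientGroup.congr _ _ e hcen
  have hs' : IsSimpleGroup (Quot D d) := by
    have := eq'.symm.toEquiv.nontrivial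
    exact IsSimpleGroup.isSimpleGroup_of_surjective eq'.toMonoidHom eq'.surjective
  obtain ⟨u, hu, -⟩ := pair_of_nontrivial (D := D) (d := d) hs'.toNontrivial
  refine ⟨hdH, ⟨⟨hperf'⟩, hs'⟩, le_antisymm (fun z hz => ?_) fun z hz => ?_⟩
  · rcases center_link_le S hl hd hu hz with h1 | h1
    · refine mem_subgroupOf.2 ?_; rw [h1]; exact one_mem _
    · refine mem_subgroupOf.2 ?_; rw [h1]; exact mem_zpowers d
  · obtain ⟨k, hk⟩ := mem_subgroupOf.1 hz
    refine mem_center_iff.2 fun x => Subtype.ext ?_
    show (x : G) * z = z * x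
    rw [← hk]
    exact ((show Commute (x : G) d from
      mem_centralizer_singleton_iff.1 (closure_link_le_centralizer x.2)).zpow_right k).eq

/-- Groups of type M(22) are simple. -/
theorem isSimpleGroup_of_typeM22 (h : Cfsg.IsOfTypeM22 G D) : IsSimpleGroup G := by
  obtain ⟨hset, hconj, hgen⟩ := CfsgLib.ThreeTransp.class_to_group S.cls
  obtain ⟨a, ha, hs, haH, hperf⟩ := mem_closure_link_and_perfect S h
  obtain ⟨u, hu, v, hv, huv⟩ := pair_of_nontrivial (D := D) (d := a) hs.toNontrivial
  have hD2 := S.prim.2.1
  have hw : ∃ p ∈ D, ∃ q ∈ D, p ≠ q ∧ Commute p q := ⟨a, ha, u, hu.1, hu.2.1.symm, hu.2.2⟩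
  have h2 := CfsgLib.ThreeTransp.pCore_two_le_center S.cls S.prim
  have h3 := CfsgLib.ThreeTransp.pCore_three_le_center S.cls S.prim hw
  obtain ⟨hn, hq, hF⟩ := CfsgLib.ThreeTransp.layer_component S.cls hD2 h2 h3
  set L := Cfsg.layer G
  have hidx := CfsgLib.ThreeTransp.index_le_two_of_connected S.cls hD2 h2 h3 hq hF
    (CfsgLib.ThreeTransp.commutingGraph_connected S.cls S.prim hw)
  have hcomm : commutator G ≤ L := by
    rw [commutator_def]
    refine commutator_le.2 fun x _ y _ => ?_
    have hne : L.index ≠ 0 := index_ne_zero_of_finite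
    rcases (show L.index = 1 ∨ L.index = 2 by omega) with h1 | h1
    · rw [index_eq_one.1 h1]; exact mem_top _
    · simp only [commutatorElement_def, mul_mem_iff_of_index_two h1, inv_mem_iff]
      tauto
  have haG : a ∈ commutator G := by
    have h1 : (⟨a, haH⟩ : ↥(closure (link D a))) ∈ commutator ↥(closure (link D a)) := by
      rw [hperf]; exact mem_top _
    have h2' : a ∈ (commutator ↥(closure (link D a))).map (closure (link D a)).subtype :=
      ⟨_, h1, rfl⟩
    rw [map_subtype_commutator, ] at h2'
    rw [commutator_def]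
    exact commutator_mono le_top le_top h2'
  have htop : L = ⊤ := by
    rw [eq_top_iff, ← hgen, closure_le]
    intro x hx
    obtain ⟨g, rfl⟩ := CfsgLib.ThreeTransp.class_conj S.cls ha hx
    exact hn.conj_mem a (hcomm haG) g
  have hs : IsSimpleGroup (↥L ⧸ center ↥L) := hq.2
  let e : ↥L ≃* G := (MulEquiv.subgroupCongr htop).trans Subgroup.topEquiv
  have hcbot : center ↥L = ⊥ := by
    refine eq_bot_iff.2 fun z hz => mem_bot.2 (e.injective ?_)
    rw [map_one, ← mem_bot, ← S.center_bot]
    refine mem_center_iff.2 fun y => ?_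
    obtain ⟨y, rfl⟩ := e.surjective y
    rw [← map_mul, ← map_mul, mem_center_iff.1 hz y]
  let e2 : ↥L ⧸ center ↥L ≃* G := ((QuotientGroup.quotientMulEquivOfEq hcbot).trans
    QuotientGroup.quotientBot).trans e
  have : Nontrivial G := ⟨a, 1, CfsgLib.ThreeTrans.ne_one hset ha⟩
  exact IsSimpleGroup.isSimpleGroup_of_surjective e2.toMonoidHom e2.surjective

end CfsgLib.FischerUnique
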