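import Cfsg.Agent.Lib.FischerType.Types

set_option autoImplicit false

/-! Common neighbours inside a link, and primitive classes on the image of a link. -/

namespace CfsgLib.FischerUnique

open Subgroup
open CfsgLib.ThreeTrans (link commute_conj_iff' conj_self_of_commute mul_self inv_eq cube_eq_one
  conj_pair)
open CfsgLib.ThreeTransp (SameComm SameLink)
open CfsgLib.FischerType

variable {G : Type*} [Group G] [Finite G] {D : Set G} (S : Setting D)

include S

/-- Two non-commuting members of a link have a common neighbour in it. -/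
theorem exists_common {d₁ c₁ : G} (hd₁ : d₁ ∈ D) (hc₁ : c₁ ∈ D) (hdc : ¬ Commute d₁ c₁)
    (hu₁ : ∃ u ∈ link D d₁, True)
    (hns : ¬ Group.IsSolvable ↥(closure (link D d₁ ∩ link D c₁))) {d x y : G} (hd : d ∈ D)
    (hx : x ∈ link D d) (hy : y ∈ link D d) (hxy : ¬ Commute x y) :
    ∃ z ∈ link D d, Commute z x ∧ Commute z y := by
  by_contra! hno
  set W := link D x ∩ link D y with hW
  have hdW : d ∈ W := ⟨⟨hd, hx.2.1.symm, hx.2.2.symm⟩, hd, hy.2.1.symm, hy.2.2.symm⟩
  have hd' : ∀ w ∈ W, w ≠ d → ¬ Commute d w := fun w hw hne hcw =>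
    hno w ⟨hw.1.1, hne, hcw⟩ hw.1.2.2.symm hw.2.2.2.symm
  have hWconj : ∀ g : G, Commute g x → Commute g y → ∀ w ∈ W, g * w * g⁻¹ ∈ W := by
    intro g hgx hgy w hw
    have h1 := link_conj_mem S.cls g hw.1
    have h2 := link_conj_mem S.cls g hw.2
    rw [conj_self_of_commute hgx] at h1
    rw [conj_self_of_commute hgy] at h2
    exact ⟨h1, h2⟩
  have hpair' : ∀ w ∈ W, ∀ v ∈ W, v ≠ w → ¬ Commute w v := by
    intro w hw v hv hne hcwv
    by_cases hwd : w = d
    · subst hwd; exact hd' v hv hne hcwv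
    set g := w * d with hg
    have hgx : Commute g x := hw.1.2.2.symm.mul_left hdW.1.2.2.symm
    have hgy : Commute g y := hw.2.2.2.symm.mul_left hdW.2.2.2.symm
    have hgw : g * w * g⁻¹ = d := conj_pair S.cls.1 hw.1.1 hd fun h => hd' w hw hwd h.symm
    have h1 := hWconj g hgx hgy v hv
    refine hd' _ h1 (fun h => hne (mul_left_cancel (mul_right_cancel (h.trans hgw.symm)))) ?_
    rw [← hgw]
    exact (commute_conj_iff' g w v).2 hcwv
  refine S.not_solvable_all hd₁ hc₁ hdc hu₁ hns hx.1 hy.1 hxy ?_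
  refine solvable_of_pairwise (fun w hw => S.cls.1.1 w hw.1.1)
    (fun w hw v hv => hWconj w hw.1.2.2.symm hw.2.2.2.symm v hv) fun w hw v hv => ?_
  by_cases hne : v = w
  · rw [hne, mul_self S.cls.1 hw.1.1, one_pow]
  · exact cube_eq_one S.cls.1 hw.1.1 hv.1.1 (hpair' w hw v hv hne)

omit [Finite G] S in
/-- Cosets of members generate a `p`-group with a simple image: the product is central. -/
theorem commute_of_mul_mem_pCore (hset : Cfsg.IsThreeTranspositionSet D) {p : ℕ} [Fact p.Prime]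
    [Finite G] {d u v : G} (hs : IsSimpleGroup (Quot D d)) (hu : u ∈ link D d) (hv : v ∈ link D d)
    (hne : u ≠ v) (hmem : u * v ∈ Cfsg.pCore p G) {w : G} (hw : w ∈ link D d) : Commute u w := by
  by_contra huw
  set K := closure (link D d) with hK
  set x : ↥K := ⟨u, subset_closure hu⟩ * ⟨v, subset_closure hv⟩ with hx
  set N := (Cfsg.pCore p G).subgroupOf K with hN
  have hNp : IsPGroup p N :=
    (CfsgLib.LargeXS.pCore_isPGroup p G).comap_of_injective _ K.subtype_injective
  have hNle : N.map (QuotientGroup.mk' (center ↥K)) ≤ Cfsg.pCore p (Quot D d) :=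
    CfsgLib.ThreeTransp.le_pCore
      (Subgroup.Normal.map inferInstance _ (QuotientGroup.mk'_surjective _)) (hNp.map _)
  have hbot : Cfsg.pCore p (Quot D d) = ⊥ :=
    pCore_eq_bot_of_simple p hs (a := toImg D d hu) (b := toImg D d hw)
      fun h => huw (commute_of_toImg hset hu hw h)
  have hxc : x ∈ center ↥K := by
    have h1 : (QuotientGroup.mk' (center ↥K)) x ∈ Cfsg.pCore p (Quot D d) := hNle ⟨x, hmem, rfl⟩
    rw [hbot, mem_bot] at h1
    exact (QuotientGroup.eq_one_iff _).1 h1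
  refine huw (commute_of_commute_mul_two hset hu.1 hv.1 hw.1 hne ?_).1.symm
  exact congrArg Subtype.val (mem_center_iff.1 hxc ⟨w, subset_closure hw⟩)

omit S in
/-- A class with a member of simple link image has central `O_2` and `O_3`. -/
theorem pCore_le_center_of_simple (hc : Cfsg.IsThreeTranspositionClass D) {d : G} (hd : d ∈ D)
    (hs : IsSimpleGroup (Quot D d)) :
    Cfsg.pCore 2 G ≤ center G ∧ Cfsg.pCore 3 G ≤ center G := by
  have : Fact (Nat.Prime 2) := ⟨Nat.prime_two⟩
  have : Fact (Nat.Prime 3) := ⟨Nat.prime_three⟩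
  obtain ⟨hset, hconj, -⟩ := CfsgLib.ThreeTransp.class_to_group hc
  constructor
  · by_contra h2
    obtain ⟨v, hv, hvd, hmem⟩ := CfsgLib.ThreeTransp.exists_ne_conj_pCore hc h2 hd
    exact hvd (eq_of_sameComm_of_simple hc hd hs d hd v hv
      (CfsgLib.ThreeTransp.sameComm_of_mul_mem hset hd hv hmem)).symm
  · by_contra h3
    obtain ⟨v, hv, hvd, hmem⟩ := CfsgLib.ThreeTransp.exists_ne_conj_pCore hc h3 hd
    obtain ⟨u', hu', w, hw, huw⟩ := pair_of_nontrivial (D := D) (d := d) hs.toNontrivial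
    obtain ⟨g, hg⟩ := CfsgLib.ThreeTransp.class_conj hc hd hu'.1
    have hmem' : g * (d * v) * g⁻¹ ∈ Cfsg.pCore 3 G :=
      (inferInstance : (Cfsg.pCore 3 G).Normal).conj_mem _ hmem g
    have e : g * (d * v) * g⁻¹ = u' * (g * v * g⁻¹) := by rw [← hg]; group
    rw [e] at hmem'
    set v' := g * v * g⁻¹ with hv'
    have hv'D : v' ∈ D := hconj g v hv
    have hne : u' ≠ v' := fun h => hvd (mul_left_cancel (mul_right_cancel (hg.trans h))).symm
    have hsl := CfsgLib.ThreeTransp.sameLink_of_mul_mem hset hu'.1 hv'D hmem'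
    obtain ⟨hdv, hcdv⟩ := (hsl d hd).1 ⟨hu'.2.1.symm, hu'.2.2.symm⟩
    exact huw (commute_of_mul_mem_pCore hset hs hu' ⟨hv'D, hdv.symm, hcdv.symm⟩ hne hmem' hw)

/-- The image of a link with members of simple link image is a primitive class. -/
theorem imgSetting {d c : G} (hd : d ∈ D) (hc : c ∈ D) (hdc : ¬ Commute d c)
    (hns : ¬ Group.IsSolvable ↥(closure (link D d ∩ link D c)))
    (hX : Cfsg.IsOfTypeM22 (Quot D d) (img D d)) : Setting (img D d) := by
  have hpair := pair_of_typeM22_img hX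
  have hcls := S.imgClass hd hpair
  obtain ⟨d2, hd2, hs⟩ := exists_simple_of_typeM22 hX
  obtain ⟨hq2, hq3⟩ := pCore_le_center_of_simple hcls hd2 hs
  obtain ⟨a, ha, b, hb, hab⟩ := hpair
  have hD2 : ∃ q ∈ img D d, ∃ r ∈ img D d, q ≠ r :=
    ⟨_, toImg_mem ha, _, toImg_mem hb,
      fun h => hab (commute_of_toImg S.cls.1 ha hb (h ▸ Commute.refl _))⟩
  have hconn : (Cfsg.commutingGraph (img D d)).Connected := by
    have : Nonempty ↥(img D d) := ⟨⟨_, toImg_mem ha⟩⟩
    refine SimpleGraph.Connected.mk fun q r => ?_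
    obtain ⟨q, hq⟩ := q
    obtain ⟨r, hr⟩ := r
    have hstep : ∀ {s t : Quot D d} (hs : s ∈ img D d) (ht : t ∈ img D d), Commute s t →
        (Cfsg.commutingGraph (img D d)).Reachable ⟨s, hs⟩ ⟨t, ht⟩ := by
      intro s t hs ht hst
      by_cases he : s = t
      · subst he; exact .refl _
      · exact SimpleGraph.Adj.reachable (CfsgLib.ThreeTransp.commutingGraph_adj.2
          ⟨fun h => he (congrArg Subtype.val h), hst⟩)
    by_cases hcqr : Commute q r
    · exact hstep hq hr hcqr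
    obtain ⟨x, hx, rfl⟩ := exists_toImg hq
    obtain ⟨y, hy, rfl⟩ := exists_toImg hr
    obtain ⟨z, hz, hzx, hzy⟩ := exists_common S hd hc hdc ⟨a, ha, trivial⟩ hns hd hx hy
      fun h => hcqr (commute_toImg hx hy h)
    exact (hstep hq (toImg_mem hz) (commute_toImg hx hz hzx.symm)).trans
      (hstep (toImg_mem hz) hr (commute_toImg hz hy hzy))
  obtain ⟨hn, hL, hF⟩ := CfsgLib.ThreeTransp.layer_component hcls hD2 hq2 hq3
  exact ⟨hcls, CfsgLib.ThreeTransp.isPrimitive_of_index_le_two hcls hD2 hq2 hq3 hL hF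
    (CfsgLib.ThreeTransp.index_le_two_of_connected hcls hD2 hq2 hq3 hL hF hconn), hX.1⟩

end CfsgLib.FischerUnique
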