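import Cfsg.Agent.Lib.FischerUnique.FixedPoint
import Cfsg.Agent.Lib.FischerUnique.Common

set_option autoImplicit false

/-! Rigidity ascends from the image of a link to the whole class. -/

namespace CfsgLib.FischerUnique

open Subgroup
open CfsgLib.ThreeTrans (link commute_conj_iff' conj_self_of_commute mul_self inv_eq)
open CfsgLib.FischerType

variable {G : Type*} [Group G] {D : Set G}

/-- The automorphisms in question fixing `d` act on its link like one of its members. -/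
def RigidAt (D : Set G) (d : G) : Prop :=
  ∀ ε : MulAut G, (∀ g, ε (ε g) = g) → (∀ x ∈ D, ε x ∈ D) → SmallDisp ε → ε d = d →
    (∀ w ∈ link D d, ε w = w) ∨ ∃ q ∈ link D d, ∀ w ∈ link D d, ε w = q * w * q⁻¹

theorem map_mem_link (ε : MulAut G) (hpres : ∀ x ∈ D, ε x ∈ D) {d w : G} (hd : ε d = d)
    (hw : w ∈ link D d) : ε w ∈ link D d := by
  refine ⟨hpres w hw.1, fun h => hw.2.1 (ε.injective (h.trans hd.symm)), ?_⟩
  have := hw.2.2.map ε
  rwa [hd] at this

theorem rigidAt_conj (hc : Cfsg.IsThreeTranspositionClass D) {d : G} (g : G) (h : RigidAt D d) :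
    RigidAt D (g * d * g⁻¹) := by
  intro ε hinv hpres hT hfix
  have hmem : ∀ (x : G) {y : G}, y ∈ D → x * y * x⁻¹ ∈ D := fun x _ hy =>
    CfsgLib.ThreeTransp.class_conj_mem hc x hy
  set ε' : MulAut G := MulAut.conj g⁻¹ * (ε * MulAut.conj g) with hε'
  have happ : ∀ x, ε' x = g⁻¹ * ε (g * x * g⁻¹) * g := fun x => by simp [hε']
  have e1 : ∀ x, g * (g⁻¹ * x * g) * g⁻¹ = x := fun x => by group
  have hback : ∀ w ∈ link D (g * d * g⁻¹), g⁻¹ * w * g ∈ link D d := by
    intro w hw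
    have h1 := link_conj_mem hc g⁻¹ hw
    rwa [inv_inv, show g⁻¹ * (g * d * g⁻¹) * g = d by group] at h1
  have key : ∀ w ∈ link D (g * d * g⁻¹), ∀ z : G, ε' (g⁻¹ * w * g) = z → ε w = g * z * g⁻¹ := by
    intro w _ z hz
    rw [happ, e1] at hz
    rw [← hz, e1]
  rcases h ε' (fun x => by rw [happ, happ, e1, hinv]; group)
      (fun x hx => by
        rw [happ]
        have := hmem g⁻¹ (hpres _ (hmem g hx))
        rwa [inv_inv] at this)
      (fun x => by
        have e : x⁻¹ * ε' x = g⁻¹ * ((g * x * g⁻¹)⁻¹ * ε (g * x * g⁻¹)) * g⁻¹⁻¹ := by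
          rw [happ]; group
        rw [e, conj_pow, conj_pow, conj_eq_one_iff, conj_eq_one_iff]
        exact hT _)
      (by rw [happ, hfix]; group) with h1 | ⟨q, hq, h1⟩
  · refine Or.inl fun w hw => ?_
    rw [key w hw _ (h1 _ (hback w hw)), e1]
  · refine Or.inr ⟨g * q * g⁻¹, link_conj_mem hc g hq, fun w hw => ?_⟩
    rw [key w hw _ (h1 _ (hback w hw))]
    group

variable [Finite G] (S : Setting D)

include S

theorem rigidAt_of_img {d : G} (hd : d ∈ D)
    (hpair : ∃ u ∈ link D d, ∃ v ∈ link D d, ¬ Commute u v) (hR : Rigid (img D d)) :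
    RigidAt D d := by
  intro ε hinv hpres hT hfix
  set H := closure (link D d) with hH
  have hmap : H.map ε.toMonoidHom = H := by
    rw [hH, MonoidHom.map_closure]
    refine congrArg Subgroup.closure (Set.Subset.antisymm ?_ ?_)
    · rintro _ ⟨w, hw, rfl⟩; exact map_mem_link ε hpres hfix hw
    · intro w hw; exact ⟨ε w, map_mem_link ε hpres hfix hw, hinv w⟩
  let e : ↥H ≃* ↥H := (MulEquiv.subgroupMap ε H).trans (MulEquiv.subgroupCongr hmap)
  have he : ∀ x : ↥H, (e x : G) = ε x := fun x => rfl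
  have hce : (center ↥H).map e.toMonoidHom = center ↥H := by
    refine le_antisymm ?_ fun x hx => ?_
    · rintro _ ⟨x, hx, rfl⟩
      refine mem_center_iff.2 fun y => ?_
      obtain ⟨y, rfl⟩ := e.surjective y
      show e y * e x = e x * e y
      rw [← map_mul, ← map_mul, mem_center_iff.1 hx y]
    · refine ⟨e.symm x, mem_center_iff.2 fun y => e.injective ?_, e.apply_symm_apply x⟩
      rw [map_mul, map_mul, e.apply_symm_apply, mem_center_iff.1 hx (e y)]
  let eb : MulAut (Quot D d) := QuotientGroup.congr (center ↥H) (center ↥H) e hce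
  have heb : ∀ x : ↥H, eb (QuotientGroup.mk x) = QuotientGroup.mk (e x) := fun x => rfl
  have himg : ∀ (w : G) (hw : w ∈ link D d),
      eb (toImg D d hw) = toImg D d (map_mem_link ε hpres hfix hw) := fun w hw => rfl
  have hnc := S.noCentral hd hpair
  rcases hR eb
    (fun q => by
      obtain ⟨x, rfl⟩ := QuotientGroup.mk_surjective q
      rw [heb, heb]
      exact congrArg _ (Subtype.ext (by rw [he, he, hinv])))
    (fun q hq => by
      obtain ⟨w, hw, rfl⟩ := exists_toImg hq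
      rw [himg]
      exact toImg_mem _)
    (fun q => by
      obtain ⟨x, rfl⟩ := QuotientGroup.mk_surjective q
      rw [heb, ← QuotientGroup.mk_inv, ← QuotientGroup.mk_mul, ← QuotientGroup.mk_pow,
        ← QuotientGroup.mk_pow, ← QuotientGroup.mk_one]
      refine (hT x).imp (fun h => ?_) fun h => ?_ <;>
      · refine congrArg _ (Subtype.ext ?_)
        simpa [he] using h) with h1 | ⟨q, hq, h1⟩
  · exact Or.inl fun w hw =>
      eq_of_toImg S.cls.1 hnc (map_mem_link ε hpres hfix hw) hw ((himg w hw).symm.trans (h1 _))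
  · obtain ⟨v, hv, rfl⟩ := exists_toImg hq
    refine Or.inr ⟨v, hv, fun w hw => ?_⟩
    have hm : v * w * v⁻¹ ∈ link D d :=
      CfsgLib.ThreeTrans.linkClass_subset_link S.cls hw ⟨v, subset_closure hv, rfl⟩
    refine eq_of_toImg S.cls.1 hnc (map_mem_link ε hpres hfix hw) hm
      ((himg w hw).symm.trans ((h1 _).trans ?_))
    rw [← QuotientGroup.mk_mul, ← QuotientGroup.mk_inv, ← QuotientGroup.mk_mul]
    rfl

/-- A member commuting with all common neighbours of `d` and `z` is not one of them. -/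
theorem not_central_common {d z r : G} (hd : d ∈ D) (hz : z ∈ link D d)
    (hrd : r ∈ link D d) (hrz : r ∈ link D z) (htf : LinkTwinFree D d)
    (hall : ∀ w ∈ link D d ∩ link D z, Commute r w) : False := by
  set W : G → Set G := fun x => link D d ∩ link D x with hW
  obtain ⟨k, hk, hkz⟩ := S.exists_conj_link hd hz hrd
  have hkd : k * d * k⁻¹ = d := by
    refine conj_self_of_commute (mem_centralizer_singleton_iff.1 ?_)
    exact ((closure_le _).2 fun e he => mem_centralizer_singleton_iff.2 he.2.2.eq.symm :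
      closure (link D d) ≤ centralizer {d}) hk
  have hle : (W r).ncard ≤ (W z).ncard := by
    refine Set.ncard_le_ncard_of_injOn (fun e => k⁻¹ * e * k⁻¹⁻¹) (fun e he => ?_)
      (fun a _ b _ h => mul_left_cancel (mul_right_cancel h)) (Set.toFinite _)
    have h1 := link_conj_mem S.cls k⁻¹ he.1
    have h2 := link_conj_mem S.cls k⁻¹ he.2
    have ed : k⁻¹ * d * k⁻¹⁻¹ = d := by nth_rewrite 1 [← hkd]; group
    have ez : k⁻¹ * r * k⁻¹⁻¹ = z := by rw [← hkz]; group
    rw [ed] at h1; rw [ez] at h2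
    exact ⟨h1, h2⟩
  have hrW : r ∈ W z := ⟨hrd, hrz⟩
  have hsub : insert z (W z \ {r}) ⊆ W r := by
    rintro e (rfl | ⟨he, her⟩)
    · exact ⟨hz, hz.1, hrz.2.1.symm, hrz.2.2.symm⟩
    · exact ⟨he.1, he.1.1, her, hall e he⟩
  have hzW : z ∉ W z \ {r} := fun h => h.1.2.2.1 rfl
  have heq : insert z (W z \ {r}) = W r := by
    refine Set.eq_of_subset_of_ncard_le hsub ?_ (Set.toFinite _)
    rw [Set.ncard_insert_of_notMem hzW (Set.toFinite _),
      Set.ncard_sdiff_singleton_add_one hrW (Set.toFinite _)]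
    exact hle
  refine hrz.2.1 (htf z hz r hrd fun e he => ?_).symm
  constructor
  · intro h
    by_cases her : e = r
    · subst her; exact hrz.2.2
    · have h1 : e ∈ insert z (W z \ {r}) := by rw [heq]; exact ⟨he, he.1, her, h⟩
      rcases h1 with rfl | h1
      · exact Commute.refl _
      · exact h1.1.2.2.2
  · intro h
    by_cases hez : e = z
    · subst hez; exact hrz.2.2.symm
    · exact hall e ⟨he, he.1, hez, h⟩

/-- Rigidity of the image of one link gives rigidity of the class. -/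
theorem rigid_step {d₁ c₁ : G} (hd₁ : d₁ ∈ D) (hc₁ : c₁ ∈ D) (hdc : ¬ Commute d₁ c₁)
    (hns : ¬ Group.IsSolvable ↥(closure (link D d₁ ∩ link D c₁)))
    (hpair : ∃ u ∈ link D d₁, ∃ v ∈ link D d₁, ¬ Commute u v) (htf₁ : LinkTwinFree D d₁)
    (hR : Rigid (img D d₁)) : Rigid D := by
  intro ε hinv hpres hT
  obtain ⟨hset, hconj, hgen⟩ := CfsgLib.ThreeTransp.class_to_group S.cls
  have hAt : ∀ d ∈ D, RigidAt D d ∧ LinkTwinFree D d ∧
      ∃ u ∈ link D d, ∃ v ∈ link D d, ¬ Commute u v := by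
    intro d hd
    obtain ⟨g, rfl⟩ := CfsgLib.ThreeTransp.class_conj S.cls hd₁ hd
    obtain ⟨u, hu, v, hv, huv⟩ := hpair
    exact ⟨rigidAt_conj S.cls g (rigidAt_of_img S hd₁ ⟨u, hu, v, hv, huv⟩ hR),
      linkTwinFree_conj S.cls g htf₁, _, link_conj_mem S.cls g hu, _, link_conj_mem S.cls g hv,
      fun h => huv ((commute_conj_iff' g u v).1 h)⟩
  obtain ⟨d, hd, hεd⟩ := exists_fixed S ε hinv hpres hT
  obtain ⟨hAd, htf, hpd⟩ := hAt d hd
  obtain ⟨z, hz, hεz, a, ha, hfix⟩ : ∃ z ∈ link D d, ε z = z ∧ ∃ a : G, (a = 1 ∨ a = z) ∧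
      ∀ w ∈ link D d, a * ε w * a⁻¹ = w := by
    rcases hAd ε hinv hpres hT hεd with h | ⟨q, hq, h⟩
    · obtain ⟨u, hu, -⟩ := hpd
      exact ⟨u, hu, h u hu, 1, Or.inl rfl, fun w hw => by rw [h w hw, one_mul, inv_one, mul_one]⟩
    · refine ⟨q, hq, by rw [h q hq, mul_inv_cancel_right], q, Or.inr rfl, fun w hw => ?_⟩
      rw [h w hw]
      calc q * (q * w * q⁻¹) * q⁻¹ = (q * q) * w * (q * q)⁻¹ := by group
        _ = w := by rw [mul_self hset hq.1, one_mul, inv_one, mul_one]
  have hdz : d ∈ link D z := ⟨hd, hz.2.1.symm, hz.2.2.symm⟩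
  have haz : ∀ w ∈ link D z, a * w * a⁻¹ = w := by
    intro w hw
    rcases ha with rfl | rfl
    · simp
    · exact conj_self_of_commute hw.2.2
  obtain ⟨hAz, htfz, hpz⟩ := hAt z hz.1
  obtain ⟨b, hb, hfixz⟩ : ∃ b : G, (b = 1 ∨ b = d) ∧ ∀ w ∈ link D z, ε w = b * w * b⁻¹ := by
    rcases hAz ε hinv hpres hT hεz with h | ⟨r, hr, h⟩
    · exact ⟨1, Or.inl rfl, fun w hw => by rw [h w hw, one_mul, inv_one, mul_one]⟩
    · refine ⟨r, Or.inr ?_, h⟩
      by_contra hne
      have hrd : Commute r d := mul_inv_eq_iff_eq_mul.1 ((h d hdz).symm.trans hεd)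
      refine not_central_common S hd hz ⟨hr.1, hne, hrd.symm⟩ hr htf fun w hw => ?_
      have h1 := hfix w hw.1
      rw [haz _ (map_mem_link ε hpres hεz hw.2), h w hw.2] at h1
      exact mul_inv_eq_iff_eq_mul.1 h1
  set θ : MulAut G := MulAut.conj b * (MulAut.conj a * ε) with hθ
  have happ : ∀ x, θ x = b * (a * ε x * a⁻¹) * b⁻¹ := fun x => by simp [hθ]
  have hbb : b * b = 1 := by
    rcases hb with rfl | rfl
    · exact one_mul 1
    · exact mul_self hset hd
  set M : Subgroup G := θ.toMonoidHom.eqLocus (MonoidHom.id G) with hM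
  have hmemM : ∀ x, x ∈ M ↔ θ x = x := fun x => Iff.rfl
  have hMd : ∀ w ∈ link D d, w ∈ M := by
    intro w hw
    rw [hmemM, happ, hfix w hw]
    rcases hb with rfl | rfl
    · simp
    · exact conj_self_of_commute hw.2.2
  have hMz : ∀ w ∈ link D z, w ∈ M := by
    intro w hw
    rw [hmemM, happ, haz _ (map_mem_link ε hpres hεz hw), hfixz w hw]
    rw [inv_eq_of_mul_eq_one_left hbb]
    calc b * (b * w * b) * b = (b * b) * w * (b * b) := by simp only [mul_assoc]
      _ = w := by rw [hbb, one_mul, mul_one]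
  let Q : G → Prop := fun x => (∀ w ∈ link D x, w ∈ M) ∧ ∃ y ∈ link D x, ∀ w ∈ link D y, w ∈ M
  have hQstep : ∀ x ∈ D, Q x → ∀ y ∈ link D x, Q y := by
    intro x hx hQ y hy
    obtain ⟨y₀, hy₀, h₀⟩ := hQ.2
    obtain ⟨k, hk, hky⟩ := S.exists_conj_link hx hy₀ hy
    have hkM : k ∈ M := (closure_le _).2 hQ.1 hk
    refine ⟨fun w hw => ?_, x, ⟨hx, hy.2.1.symm, hy.2.2.symm⟩, hQ.1⟩
    have h1 := link_conj_mem S.cls k⁻¹ hw
    rw [inv_inv, show k⁻¹ * y * k = y₀ by rw [← hky]; group] at h1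
    have h2 := mul_mem (mul_mem hkM (h₀ _ h1)) (inv_mem hkM)
    rwa [show k * (k⁻¹ * w * k) * k⁻¹ = w by group] at h2
  have hconn := CfsgLib.ThreeTransp.commutingGraph_connected S.cls S.prim
    ⟨d, hd, z, hz.1, hz.2.1.symm, hz.2.2⟩
  have hQall : ∀ x : D, Q x := by
    intro x
    obtain ⟨p⟩ := hconn ⟨d, hd⟩ x
    have hwalk : ∀ (u v : D), (Cfsg.commutingGraph D).Walk u v → Q u → Q v := by
      intro u v p
      induction p with
      | nil => exact id
      | @cons u v w huv _ ih =>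
        rw [CfsgLib.ThreeTransp.commutingGraph_adj] at huv
        exact fun hu => ih (hQstep u u.2 hu v ⟨v.2, fun h => huv.1 (Subtype.ext h).symm, huv.2⟩)
    exact hwalk _ _ p ⟨hMd, z, hz, hMz⟩
  have htop : ∀ g, θ g = g := by
    intro g
    rw [← hmemM]
    suffices h : closure D ≤ M from h (hgen ▸ mem_top g)
    refine (closure_le _).2 fun x hx => ?_
    obtain ⟨y, hy, -⟩ := (hQall ⟨x, hx⟩).2
    exact (hQall ⟨y, hy.1⟩).1 x ⟨hx, hy.2.1.symm, hy.2.2.symm⟩
  have hε : ∀ g, ε g = (b * a)⁻¹ * g * (b * a)⁻¹⁻¹ := by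
    intro g
    nth_rewrite 2 [← htop g]
    rw [happ]
    group
  rcases ha with rfl | rfl <;> rcases hb with rfl | rfl
  · exact Or.inl fun g => by simpa using hε g
  · exact Or.inr ⟨b, hd, fun g => by simpa [inv_eq hset hd] using hε g⟩
  · exact Or.inr ⟨a, hz.1, fun g => by simpa [inv_eq hset hz.1] using hε g⟩
  · exfalso
    obtain ⟨x, hx, hxd⟩ : ∃ x ∈ link D a, ¬ Commute b x := S.noCentral hz.1 hpz b hdz
    obtain ⟨y, hy, hyd, hyx⟩ := exists_common S hd₁ hc₁ hdc
      (let ⟨u, hu, _⟩ := hpair; ⟨u, hu, trivial⟩) hns hz.1 hdz hx hxd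
    have hyb : y ≠ x := fun h => hxd (by subst h; exact hyd.symm)
    obtain ⟨g, hg1, hg2⟩ := S.exists_conj_pair hd hz hx.1 ⟨hy.1, hyb, hyx.symm⟩
    have hdisp : g⁻¹⁻¹ * ε g⁻¹ = (x * b) * (y * a) := by
      rw [inv_inv, hε]
      have e : g * ((b * a)⁻¹ * g⁻¹ * (b * a)⁻¹⁻¹) =
          (g * a * g⁻¹)⁻¹ * (g * b * g⁻¹)⁻¹ * (b * a) := by group
      rw [e, hg1, hg2, inv_eq hset hy.1, inv_eq hset hx.1, hyx.eq, ← mul_assoc, mul_assoc x y b,
        hyd.eq]
      simp only [mul_assoc]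
    have hcom : Commute (x * b) (y * a) :=
      (hyx.symm.mul_left hyd.symm).mul_right (hx.2.2.symm.mul_left hz.2.2)
    have hya : (y * a) ^ 2 = 1 :=
      (CfsgLib.ThreeTrans.commute_iff_sq hset hy.1 hz.1).1 hy.2.2.symm
    rcases hT g⁻¹ with h | h
    · rw [hdisp, hcom.mul_pow, hya, mul_one] at h
      exact hxd ((CfsgLib.ThreeTrans.commute_iff_sq hset hx.1 hd).2 h).symm
    · rw [hdisp, hcom.mul_pow, pow_succ (y * a), hya, one_mul,
        CfsgLib.ThreeTrans.cube_eq_one hset hx.1 hd fun hc => hxd hc.symm, one_mul,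
        mul_eq_one_iff_eq_inv, inv_eq hset hz.1] at h
      exact hy.2.1 h

omit [Finite G] in
/-- A rigid class is the only generating class of 3-transpositions. -/
theorem eq_of_rigid (hR : Rigid D) {D' : Set G} (hD' : Cfsg.IsThreeTranspositionClass D') :
    D' = D := by
  obtain ⟨e₀, he₀, hDeq⟩ := hD'.2.1
  obtain ⟨e, he⟩ : ∃ e, e ∈ D' := ⟨e₀, he₀⟩
  have hee : e * e = 1 := mul_self hD'.1 he
  rcases hR (MulAut.conj e) (fun g => by
        simp only [MulAut.conj_apply]
        rw [inv_eq hD'.1 he]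
        calc e * (e * g * e) * e = (e * e) * g * (e * e) := by simp only [mul_assoc]
          _ = g := by rw [hee, one_mul, mul_one])
      (fun x hx => CfsgLib.ThreeTransp.class_conj_mem S.cls e hx)
      (fun g => by
        have h := hD'.1.2 _ (CfsgLib.ThreeTransp.class_conj_mem hD' g⁻¹ he) e he
        simpa [inv_eq hD'.1 he, mul_assoc] using h) with h | ⟨a, ha, h⟩
  · exfalso
    refine CfsgLib.ThreeTrans.ne_one hD'.1 he ?_
    rw [← mem_bot, ← S.center_bot, mem_center_iff]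
    exact fun g => (mul_inv_eq_iff_eq_mul.1 (h g)).symm
  · have hea : a = e := by
      have hc : a⁻¹ * e ∈ center G := mem_center_iff.2 fun g => by
        have h1 : e * g * e⁻¹ = a * g * a⁻¹ := h g
        calc g * (a⁻¹ * e) = a⁻¹ * (a * g * a⁻¹) * e := by group
          _ = a⁻¹ * (e * g * e⁻¹) * e := by rw [h1]
          _ = a⁻¹ * e * g := by group
      rw [S.center_bot, mem_bot] at hc
      exact inv_mul_eq_one.1 hc
    subst hea
    refine Set.Subset.antisymm (fun x hx => ?_) fun x hx => ?_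
    · obtain ⟨g, rfl⟩ := CfsgLib.ThreeTransp.class_conj hD' he hx
      exact CfsgLib.ThreeTransp.class_conj_mem S.cls g ha
    · obtain ⟨g, rfl⟩ := CfsgLib.ThreeTransp.class_conj S.cls ha hx
      exact CfsgLib.ThreeTransp.class_conj_mem hD' g he

end CfsgLib.FischerUnique
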