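import Cfsg.Agent.Lib.FischerType.Factor

set_option autoImplicit false

/-! Automorphisms whose displacements have order at most three, on a class of 3-transpositions. -/

namespace CfsgLib.FischerUnique

open Subgroup
open CfsgLib.ThreeTrans (commute_conj_iff' conj_self_of_commute mul_self inv_eq braid)
open CfsgLib.FischerType

variable {G : Type*} [Group G]

/-- Every displacement of `ε` squares or cubes to one. -/
def SmallDisp (ε : MulAut G) : Prop := ∀ g : G, (g⁻¹ * ε g) ^ 2 = 1 ∨ (g⁻¹ * ε g) ^ 3 = 1

/-- The involutive automorphisms stabilising `D` with small displacements come from `D`. -/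
def Rigid (D : Set G) : Prop :=
  ∀ ε : MulAut G, (∀ g, ε (ε g) = g) → (∀ x ∈ D, ε x ∈ D) → SmallDisp ε →
    (∀ g, ε g = g) ∨ ∃ a ∈ D, ∀ g, ε g = a * g * a⁻¹

variable {D : Set G}

theorem eps_commute_iff (ε : MulAut G) (x y : G) : Commute (ε x) (ε y) ↔ Commute x y :=
  ⟨fun h => ε.injective (by simpa using h.eq), fun h => h.map ε⟩

variable [Finite G] (S : Setting D)

include S

/-- Such an automorphism fixes a member of the class. -/
theorem exists_fixed (ε : MulAut G) (hinv : ∀ g, ε (ε g) = g) (hpres : ∀ x ∈ D, ε x ∈ D)
    (hT : SmallDisp ε) : ∃ d ∈ D, ε d = d := by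
  obtain ⟨hset, hconj, hgen⟩ := CfsgLib.ThreeTransp.class_to_group S.cls
  by_contra! hno
  have hpc : ∀ x ∈ D, Commute x (ε x) := by
    intro x hx
    by_contra hnc
    refine hno _ (hconj x (ε x) (hpres x hx)) ?_
    rw [map_mul, map_mul, map_inv, hinv, inv_eq hset hx, inv_eq hset (hpres x hx)]
    exact (braid hset hx (hpres x hx) hnc).symm
  have hpair : ∀ d ∈ D, ∀ x ∈ D, ¬ Commute x d → Commute x (ε d) := by
    intro a ha u hu hua
    by_contra hub
    set b := ε a with hb'
    set v := ε u with hv'
    have hb : b ∈ D := hpres a ha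
    have hv : v ∈ D := hpres u hu
    have hab : Commute a b := hpc a ha
    have huv : Commute u v := hpc u hu
    have hau : ¬ Commute a u := fun h => hua h.symm
    have hbu : ¬ Commute b u := fun h => hub h.symm
    have hbv : ¬ Commute b v := fun h => hau ((eps_commute_iff ε a u).1 h)
    have hav : ¬ Commute a v := fun h => hbu (by
      have h' := h.map ε
      rwa [← hb', hv', hinv] at h')
    have iu : ∀ y : G, u * (u * y) = y := fun y => by rw [← mul_assoc, mul_self hset hu, one_mul]
    have iv : ∀ y : G, v * (v * y) = y := fun y => by rw [← mul_assoc, mul_self hset hv, one_mul]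
    have au := braid hset ha hu hau
    have bu := braid hset hb hu hbu
    have bv := braid hset hb hv hbv
    have av := braid hset ha hv hav
    set s := u * v with hs
    have hs2 : s * s = 1 := by
      rw [hs]; nth_rewrite 2 [huv.eq]
      simp only [mul_assoc, iv, mul_self hset hu]
    have hsinv : s⁻¹ = s := inv_eq_of_mul_eq_one_left hs2
    have cs : ∀ y, s * y * s⁻¹ = u * (v * y * v) * u := fun y => by
      rw [hs, mul_inv_rev, inv_eq hset hu, inv_eq hset hv]; simp only [mul_assoc]
    have cs' : ∀ y, s * y * s⁻¹ = v * (u * y * u) * v := fun y => by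
      rw [hs, huv.eq, mul_inv_rev, inv_eq hset hu, inv_eq hset hv]; simp only [mul_assoc]
    have cu : ∀ y z : G, Commute (u * y * u) (u * z * u) ↔ Commute y z := fun y z => by
      have h := commute_conj_iff' u y z
      rwa [inv_eq hset hu] at h
    have cv : ∀ y z : G, Commute (v * y * v) (v * z * v) ↔ Commute y z := fun y z => by
      have h := commute_conj_iff' v y z
      rwa [inv_eq hset hv] at h
    have uu : ∀ y : G, y = u * (u * y * u) * u := fun y => by
      simp only [mul_assoc, iu, mul_self hset hu, mul_one]
    have vv : ∀ y : G, y = v * (v * y * v) * v := fun y => by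
      simp only [mul_assoc, iv, mul_self hset hv, mul_one]
    have key1 : Commute (a * u * a) (b * v * b) := by
      have h := hpc _ (hconj a u hu)
      rw [map_mul, map_mul, map_inv, ← hb', ← hv', inv_eq hset ha, inv_eq hset hb] at h
      exact h
    have c1 : Commute a (s * b * s⁻¹) := by
      rw [← cu, cs, ← uu, ← au, ← bv]
      exact key1
    have c2 : Commute b (s * a * s⁻¹) := by
      rw [← cv, cs', ← vv, ← bv, ← au]
      exact key1.symm
    have c3 : Commute a (s * a * s⁻¹) := by
      rw [← cu, cs, ← uu, ← au, ← av]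
      have h := commute_conj_iff' a u v
      rw [inv_eq hset ha] at h
      exact h.2 huv
    have c4 : Commute b (s * b * s⁻¹) := by
      rw [← cu, cs, ← uu, ← bu, ← bv]
      have h := commute_conj_iff' b u v
      rw [inv_eq hset hb] at h
      exact h.2 huv
    set a1 := s * a * s⁻¹ with ha1'
    set b1 := s * b * s⁻¹ with hb1'
    have ha1 : a1 ∈ D := hconj s a ha
    have hb1 : b1 ∈ D := hconj s b hb
    have c5 : Commute a1 b1 := (commute_conj_iff' s a b).2 hab
    set m := a * b with hm
    have hm2 : m * m = 1 := by
      rw [hm]; nth_rewrite 2 [hab.eq]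
      simp only [mul_assoc]
      rw [← mul_assoc b b a, mul_self hset hb, one_mul, mul_self hset ha]
    set c := s * m with hc'
    have hsms : s * m * s = a1 * b1 := by
      rw [hm, ha1', hb1', hsinv]
      calc s * (a * b) * s = s * a * (s * s) * b * s := by rw [hs2]; group
        _ = _ := by simp only [mul_assoc]
    have hcc : c * c = (a1 * b1) * m := by
      rw [hc', ← hsms]; simp only [mul_assoc]
    have hm1 : a1 * b1 * (a1 * b1) = 1 := by
      nth_rewrite 2 [c5.eq]
      simp only [mul_assoc]
      rw [← mul_assoc b1 b1 a1, mul_self hset hb1, one_mul, mul_self hset ha1]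
    have hcm : Commute (a1 * b1) m :=
      ((c3.symm.mul_right c2.symm).mul_left (c1.symm.mul_right c4.symm))
    have h4 : c ^ 4 = 1 := by
      rw [show (4 : ℕ) = 2 * 2 from rfl, pow_mul, pow_two c, hcc, hcm.mul_pow, pow_two, pow_two,
        hm1, hm2, one_mul]
    have hc2 : c ^ 2 = 1 := by
      have hd : (u * a)⁻¹ * ε (u * a) = a * u * v * b := by
        rw [map_mul, mul_inv_rev, inv_eq hset hu, inv_eq hset ha, ← hb', ← hv']
        simp only [mul_assoc]
      have he : a * u * v * b = a * c * a⁻¹ := by
        rw [hc', hs, hm, inv_eq hset ha]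
        simp only [mul_assoc]
        rw [← hab.eq, ← mul_assoc a a b, mul_self hset ha, one_mul]
      have hp : ∀ n : ℕ, ((u * a)⁻¹ * ε (u * a)) ^ n = 1 → c ^ n = 1 := by
        intro n hn
        rw [hd, he, conj_pow, conj_eq_one_iff] at hn
        exact hn
      rcases hT (u * a) with h | h
      · exact hp 2 h
      · have h3 := hp 3 h
        have h1 : c = 1 := by rw [show (4 : ℕ) = 3 + 1 from rfl, pow_succ, h3, one_mul] at h4; exact h4
        rw [h1, one_pow]
    have heq : a1 * b1 = a * b := by
      rw [pow_two, hcc] at hc2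
      exact mul_right_cancel (hc2.trans hm2.symm)
    have hne : a ≠ b := fun h => hno a ha h.symm
    have hne1 : a1 ≠ b1 := fun h => hne (mul_left_cancel (mul_right_cancel h))
    rcases S.pair_unique ha1 hb1 ha hb hne1 hne c5 hab heq with ⟨h, -⟩ | ⟨h, -⟩
    · rw [ha1', cs] at h
      have h' : v * a * v = u * a * u := by
        nth_rewrite 2 [← h]
        simp only [mul_assoc, iu, mul_self hset hu, mul_one]
      rw [← av, ← au] at h'
      exact hno u hu (mul_left_cancel (mul_right_cancel h'))
    · rw [ha1', cs] at h
      have h' : v * a * v = u * b * u := by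
        rw [← h]
        simp only [mul_assoc, iu, mul_self hset hu, mul_one]
      have h2 : v * a * v ∈ D := by
        have h3 := hconj v a ha
        rwa [inv_eq hset hv] at h3
      refine hno _ h2 ?_
      rw [map_mul, map_mul, hv', hinv, ← hb', ← hv', ← h']
  obtain ⟨d, hd, -⟩ : ∃ d ∈ D, True := by
    obtain ⟨a, ha, -⟩ := S.prim.2.1
    exact ⟨a, ha, trivial⟩
  set d' := ε d with hd'e
  have hd' : d' ∈ D := hpres d hd
  have hN : ∀ x ∈ D, ¬ Commute x d → Commute x d' := hpair d hd
  have hN' : ∀ x ∈ D, ¬ Commute x d' → Commute x d := fun x hx h => by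
    by_contra h'; exact h (hN x hx h')
  have hcomm : ∀ x ∈ D, ∀ z ∈ D, ¬ Commute x d → ¬ Commute z d' → Commute x z := by
    intro x hx z hz hxd hzd'
    by_contra hxz
    have ht := hconj x z hz
    refine hzd' ?_
    have h1 : ¬ Commute (x * z * x⁻¹) d := by
      intro h
      rw [inv_eq hset hx, braid hset hx hz hxz] at h
      refine hxd ?_
      have hcd := hN' z hz hzd'
      rw [← commute_conj_iff' z, inv_eq hset hz]
      rwa [show z * d * z = d by rw [hcd.eq, mul_assoc, mul_self hset hz, mul_one]]
    have h2 := hN _ ht h1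
    rw [← commute_conj_iff' x, conj_self_of_commute (hN x hx hxd)]
    exact h2
  set N : Set G := {e | e ∈ D ∧ ¬ Commute e d} with hNdef
  set A := closure (insert d N) with hA
  have hgens : insert d N ⊆ (A : Set G) := subset_closure
  have hstab : ∀ e ∈ D, A ≤ A.comap (MulAut.conj e).toMonoidHom := by
    intro e he
    refine (closure_le _).2 fun z hz => ?_
    show e * z * e⁻¹ ∈ A
    by_cases hed : Commute e d
    · rcases Set.mem_insert_iff.1 hz with rfl | hz'
      · rw [conj_self_of_commute hed]; exact hgens (Set.mem_insert _ _)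
      · refine hgens (Set.mem_insert_of_mem _ ⟨hconj e z hz'.1, fun h => hz'.2 ?_⟩)
        rw [← commute_conj_iff' e, conj_self_of_commute hed]
        exact h
    · have hemem : e ∈ A := hgens (Set.mem_insert_of_mem _ ⟨he, hed⟩)
      exact mul_mem (mul_mem hemem (hgens hz)) (inv_mem hemem)
  have hDA : ∀ e ∈ D, e ∈ A := by
    intro e he
    obtain ⟨g, rfl⟩ := CfsgLib.ThreeTransp.class_conj S.cls hd he
    have hg : g ∈ closure D := by rw [hgen]; exact mem_top g
    suffices h : ∀ y ∈ A, g * y * g⁻¹ ∈ A from h d (hgens (Set.mem_insert _ _))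
    clear he
    induction hg using closure_induction'' with
    | mem e he => exact fun y hy => hstab e he hy
    | inv_mem e he => rw [inv_eq hset he]; exact fun y hy => hstab e he hy
    | one => intro y hy; simpa using hy
    | mul k l _ _ ihk ihl =>
      intro y hy
      rw [← CfsgLib.ThreeTrans.conj_conj_eq]
      exact ihk _ (ihl y hy)
  have hcen : d' ∈ center G := by
    refine mem_center_iff.2 fun g => ?_
    have hle : closure D ≤ centralizer {d'} := by
      refine ((closure_le _).2 fun e he => hDA e he).trans ((closure_le _).2 fun z hz => ?_)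
      refine mem_centralizer_singleton_iff.2 ?_
      rcases Set.mem_insert_iff.1 hz with rfl | hz'
      · exact (hpc z hd).eq
      · exact (hN z hz'.1 hz'.2).eq
    exact mem_centralizer_singleton_iff.1 (hle (hgen ▸ mem_top g))
  rw [S.center_bot, mem_bot] at hcen
  exact CfsgLib.ThreeTrans.ne_one hset hd' hcen

end CfsgLib.FischerUnique
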