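import Cfsg.Agent.Lib.FischerUnique.UnitaryGeom
import Cfsg.Agent.Lib.FischerUnique.FixedPoint
import Cfsg.Agent.Lib.UnitaryTransv.Basic
import Cfsg.Agent.Lib.AutPSU.Bridge

set_option autoImplicit false

/-! The involutory automorphisms of the six-dimensional unitary group over four elements with small
displacements are the transvections. -/

namespace CfsgLib.FischerUnique

open Module CfsgLib.Classical.Herm HermSpace CfsgLib.UnitaryTransv
open scoped Matrix
open CfsgLib.AutPSU (SUg GUg sMat uMat conjSU fieldSU simAut fieldAut suGU)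

variable {F : Type} [Field F] [Fintype F] (hF : Fintype.card F = 2 ^ 2)

theorem four : Four F (stdHerm hF 6).conj :=
  ⟨two_eq_zero hF, fun a => by have := FiniteField.pow_card a; rwa [hF] at this,
    fun a => stdHerm_conj hF 6 a⟩

/-- An element of `SU` acting as the transvection at `v`. -/
noncomputable def tvSU (v : Fin 6 → F) (hv : (stdHerm hF 6).h v v = 0) : SUg 6 F 2 :=
  (exists_emb_eq hF (tv hF v hv) (det_tv hF v hv)).choose

theorem emb_tvSU (v : Fin 6 → F) (hv : (stdHerm hF 6).h v v = 0) :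
    emb hF 6 (tvSU hF v hv) = tv hF v hv :=
  (exists_emb_eq hF (tv hF v hv) (det_tv hF v hv)).choose_spec

/-- The transvection at `v` in the projective group. -/
noncomputable def tvPSU (v : Fin 6 → F) (hv : (stdHerm hF 6).h v v = 0) : Cfsg.PSU 6 F 2 :=
  QuotientGroup.mk (tvSU hF v hv)

/-- The two groups of transvections are matched by `M`. -/
def Follows (β : MulAut (Cfsg.PSU 6 F 2)) (M : (Fin 6 → F) → Fin 6 → F) : Prop :=
  ∀ v hv, ∃ hv' : (stdHerm hF 6).h (M v) (M v) = 0, β (tvPSU hF v hv) = tvPSU hF (M v) hv'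

theorem exists_scalar {s : SUg 6 F 2} (h : (QuotientGroup.mk s : Cfsg.PSU 6 F 2) = 1) :
    ∃ μ : F, ∀ x, (emb hF 6 s).1 x = μ • x := by
  obtain ⟨e, f, p⟩ := exists_pair_std hF (show 3 ≤ 6 by norm_num)
  have hc : suEquivRoot hF (show 3 ≤ 6 by norm_num) s ∈
      Subgroup.center (rootGen (stdHerm hF 6)) := by
    rw [← CfsgLib.AutPSU.su_map_center hF (show 3 ≤ 6 by norm_num)]
    exact ⟨s, (QuotientGroup.eq_one_iff s).1 h, rfl⟩
  obtain ⟨μ, -, hμ⟩ := (mem_center_rootGen_iff_scalar (big_std hF (by norm_num)) p _).1 hc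
  exact ⟨μ, hμ⟩

variable {β : MulAut (Cfsg.PSU 6 F 2)}

theorem not_smallDisp {M : (Fin 6 → F) → Fin 6 → F} (hM : Follows hF β M)
    (hw : HasWitness (stdHerm hF 6) M) : ¬ SmallDisp β := by
  intro hT
  obtain ⟨a, b, x, haa, hbb, haa', hbb', hxx, haM, hbM, hab, ha'b, hxa, hxa', hxb', hxb, ha0, hind⟩ :=
    hw
  obtain ⟨ha', hβa⟩ := hM a haa
  obtain ⟨hb', hβb⟩ := hM b hbb
  set a' := M a with ha'def
  set b' := M b with hb'def
  set A := tv hF a haa
  set A' := tv hF a' ha'
  set B := tv hF b hbb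
  set B' := tv hF b' hb'
  set s : SUg 6 F 2 := tvSU hF a haa * tvSU hF b hbb with hs
  set s' : SUg 6 F 2 := tvSU hF a' ha' * tvSU hF b' hb' with hs'
  have hβ : β (QuotientGroup.mk s) = QuotientGroup.mk s' := by
    rw [hs, QuotientGroup.mk_mul, map_mul, hs', QuotientGroup.mk_mul]
    exact congrArg₂ (· * ·) hβa hβb
  set P := A * A' with hP
  set R := B' * B with hR
  have hd : emb hF 6 (s⁻¹ * s') = B * (P * R) * B⁻¹ := by
    rw [map_mul, map_inv, hs, hs', map_mul, map_mul, emb_tvSU, emb_tvSU, emb_tvSU, emb_tvSU,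
      mul_inv_rev, tv_inv, tv_inv, hP, hR]
    simp only [mul_assoc]
    rw [show B * tv hF b hbb = 1 from tv_sq hF b hbb, mul_one]
  have hsc : ∀ n : ℕ, ((QuotientGroup.mk s)⁻¹ * β (QuotientGroup.mk s)) ^ n = 1 →
      ∃ μ : F, ∀ y, ((P * R) ^ n).1 y = μ • y := by
    intro n h
    rw [hβ, ← QuotientGroup.mk_inv, ← QuotientGroup.mk_mul, ← QuotientGroup.mk_pow] at h
    obtain ⟨μ, hμ⟩ := exists_scalar hF h
    refine ⟨μ, fun y => ?_⟩
    have h1 := hμ (B.1 y)
    rw [map_pow, hd, conj_pow, mul_apply, mul_apply, inv_apply_self, ← map_smul] at h1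
    exact B.1.injective h1
  have h4 := four hF
  have Pap : ∀ y, P.1 y = y + (stdHerm hF 6).h y a' • a' + (stdHerm hF 6).h y a • a := fun y => by
    rw [hP, mul_apply, tv_apply, tv_apply, (stdHerm hF 6).add_left, (stdHerm hF 6).smul_left, (stdHerm hF 6).h_comm_zero haM, mul_zero,
      add_zero]
  have Rap : ∀ y, R.1 y = y + (stdHerm hF 6).h y b • b + (stdHerm hF 6).h y b' • b' := fun y => by
    rw [hR, mul_apply, tv_apply, tv_apply, (stdHerm hF 6).add_left, (stdHerm hF 6).smul_left, hbM, mul_zero, add_zero]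
  set p := (stdHerm hF 6).h b a with hp
  set p' := (stdHerm hF 6).h b a' with hp'
  have hnorm : ∀ {y z : Fin 6 → F}, (stdHerm hF 6).h y z ≠ 0 → (stdHerm hF 6).h z y * (stdHerm hF 6).h y z = 1 := fun {y z} hne => by
    rw [← (stdHerm hF 6).symm' y z, h4.conj, ← pow_succ]
    exact CfsgLib.UnitaryTransv.pow_three hF hne
  have hx1 : P.1 x = x := by rw [Pap, hxa, hxa', zero_smul, zero_smul, add_zero, add_zero]
  have hx2 : R.1 x = x + b := by rw [Rap, hxb, hxb', zero_smul, one_smul, add_zero]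
  have hx3 : P.1 (R.1 x) = x + b + p' • a' + p • a := by
    rw [hx2, Pap, (stdHerm hF 6).add_left, (stdHerm hF 6).add_left, hxa, hxa', zero_add, zero_add]
  set r := p' * (stdHerm hF 6).h a' b' + p * (stdHerm hF 6).h a b' with hr
  have hx4 : R.1 (P.1 (R.1 x)) = x + p' • a' + p • a + r • b' := by
    rw [hx3, Rap]
    simp only [(stdHerm hF 6).add_left, (stdHerm hF 6).smul_left, hxb, hxb', hbb, hbM, mul_zero, add_zero, zero_add]
    rw [hp, hp', hnorm hab, hnorm ha'b, show (1 + 1 + 1 : F) = 1 by linear_combination h4.two,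
      one_smul, ← hp, ← hp', ← hr]
    calc x + b + p' • a' + p • a + b + r • b' = x + p' • a' + p • a + r • b' + (b + b) := by abel
      _ = _ := by rw [h4.vadd_self, add_zero]
  have hPP : P * P = 1 := by
    refine unit_ext fun y => ?_
    rw [mul_apply, one_apply, Pap (P.1 y), Pap y]
    simp only [(stdHerm hF 6).add_left, (stdHerm hF 6).smul_left, haa, haM, (stdHerm hF 6).h_comm_zero haM, haa', mul_zero, add_zero]
    calc y + (stdHerm hF 6).h y a' • a' + (stdHerm hF 6).h y a • a + (stdHerm hF 6).h y a' • a' + (stdHerm hF 6).h y a • a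
        = y + ((stdHerm hF 6).h y a' • a' + (stdHerm hF 6).h y a' • a') + ((stdHerm hF 6).h y a • a + (stdHerm hF 6).h y a • a) := by abel
      _ = y := by rw [h4.vadd_self, h4.vadd_self, add_zero, add_zero]
  have hRR : R * R = 1 := by
    refine unit_ext fun y => ?_
    rw [mul_apply, one_apply, Rap (R.1 y), Rap y]
    simp only [(stdHerm hF 6).add_left, (stdHerm hF 6).smul_left, hbb, hbM, (stdHerm hF 6).h_comm_zero hbM, hbb', mul_zero, add_zero]
    calc y + (stdHerm hF 6).h y b • b + (stdHerm hF 6).h y b' • b' + (stdHerm hF 6).h y b • b + (stdHerm hF 6).h y b' • b'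
        = y + ((stdHerm hF 6).h y b • b + (stdHerm hF 6).h y b • b) + ((stdHerm hF 6).h y b' • b' + (stdHerm hF 6).h y b' • b') := by abel
      _ = y := by rw [h4.vadd_self, h4.vadd_self, add_zero, add_zero]
  have hPP' : ∀ y, P.1 (P.1 y) = y := fun y => congrArg (fun f => f.1 y) hPP
  have hRR' : ∀ y, R.1 (R.1 y) = y := fun y => congrArg (fun f => f.1 y) hRR
  rcases hT (QuotientGroup.mk s) with h | h
  · obtain ⟨μ, hμ⟩ := hsc 2 h
    have h0 : P.1 (R.1 (P.1 (R.1 x))) = μ • x := by
      rw [← hμ x, pow_two]; rfl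
    have h1 : R.1 (P.1 (R.1 x)) = μ • x := by
      have h2 := congrArg P.1 h0
      rw [map_smul, hx1, hPP'] at h2
      exact h2
    rw [hx4] at h1
    have h2 := congrArg (fun z => (stdHerm hF 6).h z b) h1
    simp only [(stdHerm hF 6).add_left, (stdHerm hF 6).smul_left, hxb, (stdHerm hF 6).h_comm_zero hbM, mul_zero, add_zero, mul_one] at h2
    rw [hp, hp', hnorm hab, hnorm ha'b, show (1 + 1 + 1 : F) = 1 by linear_combination h4.two] at h2
    rw [← h2, one_smul, add_assoc, add_assoc, add_eq_left] at h1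
    have h3 := congrArg (fun z => (stdHerm hF 6).h z b') h1
    simp only [(stdHerm hF 6).add_left, (stdHerm hF 6).smul_left, hbb', mul_zero, add_zero, (stdHerm hF 6).zero_left] at h3
    rw [← hr] at h3
    rw [h3, zero_smul, add_zero] at h1
    have hp0 : p' ≠ 0 := fun h0 => by
      have := hnorm ha'b; rw [← hp', h0, zero_mul] at this; exact zero_ne_one this
    refine hind (p'⁻¹ * p) ?_
    rw [mul_smul, eq_inv_smul_iff₀ hp0]
    calc p' • a' = p' • a' + (p • a + p • a) := by rw [h4.vadd_self, add_zero]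
      _ = p • a := by rw [← add_assoc, h1, zero_add]
  · obtain ⟨μ, hμ⟩ := hsc 3 h
    have h0 : P.1 (R.1 (P.1 (R.1 (P.1 (R.1 x))))) = μ • x := by
      rw [← hμ x, pow_succ, pow_two]; rfl
    have h1 : R.1 (P.1 (R.1 x)) = μ • P.1 (R.1 (P.1 x)) := by
      have h2 := congrArg (fun z => P.1 (R.1 (P.1 z))) h0
      simp only [map_smul, hPP', hRR'] at h2
      exact h2
    rw [hx1, hx4, hx3] at h1
    have h2 := congrArg (fun z => (stdHerm hF 6).h z x) h1
    simp only [(stdHerm hF 6).add_left, (stdHerm hF 6).smul_left, hxx, (stdHerm hF 6).h_comm_zero hxa, (stdHerm hF 6).h_comm_zero hxa',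
      (stdHerm hF 6).h_comm_zero hxb', (stdHerm hF 6).h_comm_one hxb, mul_zero, add_zero, zero_add, mul_one] at h2
    have hx0 : x = 0 := by
      have h3 := hμ x
      rw [← h2, zero_smul] at h3
      exact ((P * R) ^ 3).1.injective (h3.trans (map_zero _).symm)
    rw [hx0, (stdHerm hF 6).zero_left] at hxb
    exact zero_ne_one hxb

/-- The semilinear map attached to `g` and `σ`. -/
theorem follows_semilinear (g : GUg 6 F 2) (σ : F ≃+* F) :
    Follows hF (simAut g * fieldAut σ) (CfsgLib.AutPSU.stdSemi hF g σ).M := by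
  intro v hv
  set S := CfsgLib.AutPSU.stdSemi hF g σ
  have hv' : (stdHerm hF 6).h (S.M v) (S.M v) = 0 := by rw [S.map_h, hv, map_zero]
  refine ⟨hv', ?_⟩
  rw [tvPSU, MulAut.mul_apply, CfsgLib.AutPSU.fieldAut_mk, CfsgLib.AutPSU.simAut_mk, tvPSU]
  refine congrArg _ (emb_injective hF 6 (unit_ext fun z => ?_))
  obtain ⟨y, rfl⟩ := S.M.surjective z
  rw [emb_tvSU, tv_apply, S.map_h, emb_apply]
  show sMat (conjSU g (fieldSU σ (tvSU hF v hv))) *ᵥ S.M y = _
  rw [CfsgLib.AutPSU.stdSemi_M, CfsgLib.AutPSU.conjSU_coe, CfsgLib.AutPSU.fieldSU_coe,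
    Matrix.mulVec_mulVec, Matrix.mul_assoc, CfsgLib.AutPSU.uMat_inv_mul, Matrix.mul_one, ← Matrix.mulVec_mulVec,
    CfsgLib.AutPSU.map_mulVec', ← CfsgLib.AutPSU.stdSemi_M hF g σ]
  have h1 := emb_apply hF (tvSU hF v hv) y
  rw [emb_tvSU, tv_apply] at h1
  rw [show (sMat (tvSU hF v hv)) *ᵥ y = y + (stdHerm hF 6).h y v • v from h1.symm, map_add, S.map_smul']
  simp only [CfsgLib.AutPSU.stdSemi_M]

/-- An involutory automorphism with small displacements is trivial or a transvection. -/
theorem psu_involution (hinv : ∀ z, β (β z) = z) (hT : SmallDisp β) :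
    β = 1 ∨ ∃ v hv, v ≠ 0 ∧ β = MulAut.conj (tvPSU hF v hv) := by
  have hs' : ¬ ((6 : ℕ) = 3 ∧ 2 = 2) := by norm_num
  obtain ⟨g, σ, hβ⟩ := CfsgLib.AutPSU.aut_decomposition hF (by norm_num) hs' β
  have h4 := four hF
  have hsq : (simAut (g * CfsgLib.AutPSU.guMap σ g) * fieldAut (σ * σ) :
      MulAut (Cfsg.PSU 6 F 2)) = 1 := by
    rw [map_mul, map_mul, mul_assoc, ← mul_assoc (simAut (CfsgLib.AutPSU.guMap σ g)),
      ← CfsgLib.AutPSU.fieldAut_simAut, mul_assoc (fieldAut σ), ← mul_assoc, ← hβ]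
    exact MulEquiv.ext hinv
  obtain ⟨hσσ, c, hc1, hc⟩ := CfsgLib.AutPSU.semilinear_eq_one hF (by norm_num) hs' hsq
  have hc0 : c ≠ 0 := left_ne_zero_of_mul_eq_one hc1
  set S := CfsgLib.AutPSU.stdSemi hF g σ with hS
  have hfol : Follows hF β S.M := hβ ▸ follows_semilinear hF g σ
  have hMM : ∀ x, S.M (S.M x) = c • x := by
    intro x
    rw [CfsgLib.AutPSU.stdSemi_M, CfsgLib.AutPSU.stdSemi_M, ← CfsgLib.AutPSU.map_mulVec' σ,
      Matrix.mulVec_mulVec]
    show (uMat g * (uMat g).map σ) *ᵥ (fun i => σ (σ (x i))) = c • x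
    rw [show uMat g * (uMat g).map σ = c • (1 : Matrix (Fin 6) (Fin 6) F) from hc, Matrix.smul_mulVec,
      Matrix.one_mulVec]
    congr 1
    exact funext fun i => RingEquiv.congr_fun hσσ (x i)
  obtain ⟨w, hw⟩ := h4.exists_omega
  have hcases : ∀ a : F, a = 0 ∨ a = 1 ∨ a = w ∨ a = w + 1 := by
    intro a
    by_cases h0 : a * (a - 1) = 0
    · rcases mul_eq_zero.1 h0 with h | h
      · exact Or.inl h
      · exact Or.inr (Or.inl (sub_eq_zero.1 h))
    · have h1 : a ^ 2 = a + 1 := mul_left_cancel₀ h0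
        (by linear_combination h4.quart a - a ^ 3 * h4.two + a * h4.two)
      have h2 : (a - w) * (a - (w + 1)) = 0 := by
        linear_combination h1 + hw + (w + 1 - a * w) * h4.two
      rcases mul_eq_zero.1 h2 with h | h
      · exact Or.inr (Or.inr (Or.inl (sub_eq_zero.1 h)))
      · exact Or.inr (Or.inr (Or.inr (sub_eq_zero.1 h)))
  by_cases hσw : σ w = w
  · have hσ : σ = RingEquiv.refl F := by
      refine RingEquiv.ext fun a => ?_
      rcases hcases a with rfl | rfl | rfl | rfl <;> simp [hσw]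
    subst hσ
    have hM : ∀ x, S.M x = uMat g *ᵥ x := fun x => CfsgLib.AutPSU.stdSemi_M hF g _ x
    have htau : ∀ a, S.tau a = a := fun a => rfl
    set s : F := c ^ 2 with hs
    have hs0 : s ≠ 0 := pow_ne_zero 2 hc0
    let u : (Fin 6 → F) →ₗ[F] Fin 6 → F := s⁻¹ • (uMat g).mulVecLin
    have hu : ∀ x, u x = s⁻¹ • S.M x := fun x => by rw [hM]; rfl
    have hu2 : ∀ x, u (u x) = x := fun x => by
      rw [hu, hu, S.map_smul', hMM, htau, smul_smul, smul_smul]
      rw [show s⁻¹ * s⁻¹ * c = 1 by rw [hs]; field_simp; linear_combination -(CfsgLib.UnitaryTransv.pow_three hF hc0), one_smul]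
    have huh : ∀ x y, (stdHerm hF 6).h (u x) (u y) = (stdHerm hF 6).h x y := fun x y => by
      rw [hu, hu, (stdHerm hF 6).smul_left, (stdHerm hF 6).smul_right, S.map_h, htau, h4.conj]
      linear_combination (stdHerm hF 6).h x y * CfsgLib.UnitaryTransv.pow_three hF (inv_ne_zero hs0)
    rcases linear_trichotomy h4 u hu2 huh with h | ⟨v, hv0, hvv, h⟩ | h
    · refine Or.inl ?_
      rw [hβ, show (fieldAut (RingEquiv.refl F) : MulAut (Cfsg.PSU 6 F 2)) = 1 from map_one _,
        mul_one, CfsgLib.AutPSU.simAut_eq_one_iff hF (by norm_num) hs']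
      refine ⟨s, Matrix.toLin'.injective (LinearMap.ext fun x => ?_)⟩
      rw [Matrix.toLin'_apply, Matrix.toLin'_apply, Matrix.smul_mulVec, Matrix.one_mulVec, ← hM]
      have h1 := h x
      rw [hu, inv_smul_eq_iff₀ hs0] at h1
      exact h1
    · refine Or.inr ⟨v, hvv, hv0, ?_⟩
      rw [hβ, show (fieldAut (RingEquiv.refl F) : MulAut (Cfsg.PSU 6 F 2)) = 1 from map_one _,
        mul_one, tvPSU, ← CfsgLib.AutPSU.simAut_suGU,
        CfsgLib.AutPSU.simAut_eq_iff hF (by norm_num) hs']
      refine ⟨s, Matrix.toLin'.injective (LinearMap.ext fun x => ?_)⟩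
      rw [Matrix.toLin'_apply, Matrix.toLin'_apply, Matrix.smul_mulVec, ← hM, CfsgLib.AutPSU.suGU_coe]
      have h1 := h x
      rw [hu, inv_smul_eq_iff₀ hs0] at h1
      have h2 := emb_apply hF (tvSU hF v hvv) x
      rw [emb_tvSU, tv_apply] at h2
      rw [h1, h2]
    · refine absurd hT (not_smallDisp hF (M := u) (fun v hv => ?_) h)
      obtain ⟨hv', hβv⟩ := hfol v hv
      have huv : (stdHerm hF 6).h (u v) (u v) = 0 := by rw [huh]; exact hv
      refine ⟨huv, hβv.trans (congrArg _ (emb_injective hF 6 ?_))⟩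
      rw [emb_tvSU, emb_tvSU, tv_smul hF (inv_ne_zero hs0) hv' huv (hu v)]
  · have hσ : ∀ a, σ a = a ^ 2 := by
      have h1 : σ w = w + 1 := by
        rcases hcases (σ w) with h | h | h | h
        · exact absurd (σ.injective (h.trans (map_zero σ).symm))
            fun h0 => by rw [h0] at hw; simp at hw
        · exact absurd (σ.injective (h.trans (map_one σ).symm))
            fun h0 => by rw [h0] at hw; exact one_ne_zero (α := F) (by linear_combination -hw)
        · exact absurd h hσw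
        · exact h
      intro a
      rcases hcases a with rfl | rfl | rfl | rfl
      · simp
      · simp
      · rw [h1, hw]
      · rw [map_add, map_one, h1]
        linear_combination -hw - w * h4.two
    have hc2 : c = 1 := by
      obtain ⟨x, hx⟩ : ∃ x : Fin 6 → F, x ≠ 0 := ⟨fun _ => 1, fun h => one_ne_zero (congrFun h 0)⟩
      have hne : S.M x ≠ 0 := fun h => hx (S.M.injective (h.trans (map_zero _).symm))
      have h1 := congrArg S.M (hMM x)
      rw [hMM, S.map_smul'] at h1
      have h2 : c = σ c := smul_left_injective F hne h1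
      rw [hσ] at h2
      exact mul_left_cancel₀ hc0 (by linear_combination -h2)
    refine absurd hT (not_smallDisp hF hfol
      (semilinear_witness (Module.finrank_fin_fun F) h4 S.M.toAddMonoidHom (fun a x => ?_)
        (fun x => ?_) fun x y => ?_))
    · show S.M (a • x) = a ^ 2 • S.M x
      rw [S.map_smul']
      exact congrArg (· • S.M x) (hσ a)
    · show S.M (S.M x) = x
      rw [hMM, hc2, one_smul]
    · show (stdHerm hF 6).h (S.M x) (S.M y) = _
      rw [S.map_h]
      exact hσ _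

end CfsgLib.FischerUnique
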