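import Cfsg.Agent.Lib.FischerUnique.Levels
import Cfsg.Agent.Lib.FischerUnique.UnitaryAut

set_option autoImplicit false

/-! Rigidity of a class whose group is the six-dimensional unitary group over four elements. -/

namespace CfsgLib.FischerUnique

open CfsgLib.Classical.Herm HermSpace CfsgLib.UnitaryTransv
open CfsgLib.ThreeTrans (link)
open CfsgLib.FischerType

universe u

theorem unitaryRigid : UnitaryRigid.{u} := by
  intro G _ _ D S d hd F _ _ hF he ε hinv hpres hT
  obtain ⟨e⟩ := he
  have hF2 : Fintype.card F = 2 ^ 2 := by rw [hF]; norm_num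
  have hsimple := isSimpleGroup_of_psu hF e
  have hpair := pair_of_nontrivial (D := D) (d := d) hsimple.toNontrivial
  have hcls := S.imgClass hd hpair
  obtain ⟨u, hu, w, hw, huw⟩ := hpair
  set q := toImg D d hu with hq
  have hnc : ¬ Commute q (toImg D d hw) := fun h => huw (commute_of_toImg S.cls.1 hu hw h)
  have hmem : q ∈ img D d := toImg_mem hu
  have hqq : q * q = 1 := CfsgLib.ThreeTrans.mul_self hcls.1 hmem
  have hcen : ∀ z : Quot D d, (∀ y, Commute z y) → z = 1 := by
    intro z hz
    rcases hsimple.eq_bot_or_eq_top_of_normal (Subgroup.center (Quot D d)) inferInstance with h | h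
    · rw [← Subgroup.mem_bot, ← h, Subgroup.mem_center_iff]
      exact fun y => (hz y).eq.symm
    · exact absurd (Subgroup.mem_center_iff.1 (h ▸ Subgroup.mem_top (toImg D d hw) :
        toImg D d hw ∈ Subgroup.center (Quot D d)) q) hnc
  -- the members of the class are transvections
  obtain ⟨v, hv, hv0, hqv⟩ : ∃ v, ∃ hv : (stdHerm hF2 6).h v v = 0, v ≠ 0 ∧
      e q = tvPSU hF2 v hv := by
    have hcase := psu_involution hF2 (β := MulAut.conj (e q)) (fun z => by
        simp only [MulAut.conj_apply]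
        rw [← map_inv, CfsgLib.ThreeTrans.inv_eq hcls.1 hmem]
        calc e q * (e q * z * e q) * e q = (e q * e q) * z * (e q * e q) := by simp only [mul_assoc]
          _ = z := by rw [← map_mul, hqq, map_one, one_mul, mul_one])
      (fun z => by
        obtain ⟨y, rfl⟩ := e.surjective z
        have h := hcls.1.2 _ (CfsgLib.ThreeTransp.class_conj_mem hcls y⁻¹ hmem) q hmem
        rw [MulAut.conj_apply, show (e y)⁻¹ * (e q * e y * (e q)⁻¹) =
          e (y⁻¹ * q * y⁻¹⁻¹ * q⁻¹) by simp [mul_assoc], CfsgLib.ThreeTrans.inv_eq hcls.1 hmem,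
          ← map_pow, ← map_pow, e.map_eq_one_iff, e.map_eq_one_iff]
        exact h)
    rcases hcase with h | ⟨v, hv, hv0, h⟩
    · exfalso
      have h1 := hcen q fun y => e.injective <| by
        rw [map_mul, map_mul]
        exact mul_inv_eq_iff_eq_mul.1 (MulEquiv.congr_fun h (e y))
      exact CfsgLib.ThreeTrans.ne_one hcls.1 hmem h1
    · refine ⟨v, hv, hv0, ?_⟩
      have h1 := hcen (q⁻¹ * e.symm (tvPSU hF2 v hv)) fun y => e.injective <| by
        have h2 := MulEquiv.congr_fun h (e y)
        simp only [MulAut.conj_apply] at h2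
        simp only [map_mul, map_inv, e.apply_symm_apply]
        calc (e q)⁻¹ * tvPSU hF2 v hv * e y
            = (e q)⁻¹ * (tvPSU hF2 v hv * e y * (tvPSU hF2 v hv)⁻¹) * tvPSU hF2 v hv := by group
          _ = (e q)⁻¹ * (e q * e y * (e q)⁻¹) * tvPSU hF2 v hv := by rw [h2]
          _ = _ := by group
      rw [inv_mul_eq_one] at h1
      rw [h1, e.apply_symm_apply]
  have hall : ∀ z hz, z ≠ 0 → e.symm (tvPSU hF2 z hz) ∈ img D d := by
    intro z hz hz0
    obtain ⟨k, hk, hkv⟩ := rootGen_transitive (big_std hF2 (show 3 ≤ 6 by norm_num)) hv hv0 hz hz0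
    obtain ⟨s, hs⟩ := exists_emb_eq hF2 k (MonoidHom.mem_ker.1 (rootGen_le_ker_det hk))
    have h1 : tvPSU hF2 z hz =
        QuotientGroup.mk s * tvPSU hF2 v hv * (QuotientGroup.mk s : Cfsg.PSU 6 F 2)⁻¹ := by
      rw [tvPSU, tvPSU, ← QuotientGroup.mk_inv, ← QuotientGroup.mk_mul, ← QuotientGroup.mk_mul]
      refine congrArg _ (emb_injective hF2 6 ?_)
      rw [map_mul, map_mul, map_inv, hs, emb_tvSU, emb_tvSU, tv_conj]
      exact tv_congr hF2 _ _ hkv.symm
    rw [h1, ← hqv, map_mul, map_mul, map_inv, e.symm_apply_apply]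
    exact CfsgLib.ThreeTransp.class_conj_mem hcls _ hmem
  let β : MulAut (Cfsg.PSU 6 F 2) := e.symm.trans (ε.trans e)
  have hβ : ∀ z, β z = e (ε (e.symm z)) := fun z => rfl
  rcases psu_involution hF2 (β := β)
      (fun z => by rw [hβ, hβ, e.symm_apply_apply, hinv, e.apply_symm_apply])
      (fun z => by
        obtain ⟨y, rfl⟩ := e.surjective z
        rw [hβ, e.symm_apply_apply, ← map_inv, ← map_mul, ← map_pow, ← map_pow, e.map_eq_one_iff,
          e.map_eq_one_iff]
        exact hT y) with h | ⟨z, hz, hz0, h⟩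
  · refine Or.inl fun g => e.injective ?_
    have h1 := MulEquiv.congr_fun h (e g)
    rwa [hβ, e.symm_apply_apply] at h1
  · refine Or.inr ⟨_, hall z hz hz0, fun g => e.injective ?_⟩
    have h1 := MulEquiv.congr_fun h (e g)
    rw [hβ, e.symm_apply_apply, MulAut.conj_apply] at h1
    rw [h1, map_mul, map_mul, map_inv, e.apply_symm_apply]

end CfsgLib.FischerUnique
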