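import Mathlib
import Cfsg.Agent.Lib.Classical.Herm.Basic

set_option autoImplicit false

/-! Witnesses against small displacements in the Hermitian space over four elements. -/

namespace CfsgLib.FischerUnique

open Module CfsgLib.Classical.Herm HermSpace

variable {F V : Type*} [Field F] [AddCommGroup V] [Module F V]

/-- The arithmetic of four elements. -/
structure Four (F : Type*) [Field F] (H : F → F) : Prop where
  two : (2 : F) = 0
  quart : ∀ a : F, a ^ 4 = a
  conj : ∀ a : F, H a = a ^ 2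

/-- Vectors showing that two transvections moved by `M` have a bad displacement. -/
def HasWitness (H : HermSpace F V) (M : V → V) : Prop :=
  ∃ a b x : V, H.h a a = 0 ∧ H.h b b = 0 ∧ H.h (M a) (M a) = 0 ∧ H.h (M b) (M b) = 0 ∧
    H.h x x = 0 ∧ H.h a (M a) = 0 ∧ H.h b (M b) = 0 ∧ H.h a b ≠ 0 ∧ H.h (M a) b ≠ 0 ∧
    H.h x a = 0 ∧ H.h x (M a) = 0 ∧ H.h x (M b) = 0 ∧ H.h x b = 1 ∧ a ≠ 0 ∧
    ∀ c : F, M a ≠ c • a

variable {H : HermSpace F V}

theorem Four.add_self (h4 : Four F H.conj) (a : F) : a + a = 0 := by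
  linear_combination a * h4.two

theorem Four.vadd_self (h4 : Four F H.conj) (v : V) : v + v = 0 := by
  rw [← two_smul F v, h4.two, zero_smul]

theorem Four.exists_omega (h4 : Four F H.conj) : ∃ w : F, w ^ 2 = w + 1 := by
  obtain ⟨w, hw⟩ := H.conj_ne
  rw [h4.conj] at hw
  refine ⟨w, ?_⟩
  have h0 : w * (w - 1) ≠ 0 := by
    rintro h
    exact hw (by linear_combination h)
  refine mul_left_cancel₀ h0 ?_
  linear_combination h4.quart w - w ^ 3 * h4.two + w * h4.two

theorem Four.zero_or_one (h4 : Four F H.conj) {a : F} (h : H.conj a = a) : a = 0 ∨ a = 1 := by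
  rw [h4.conj] at h
  rcases mul_eq_zero.1 (show a * (a - 1) = 0 by linear_combination h) with h' | h'
  · exact Or.inl h'
  · exact Or.inr (sub_eq_zero.1 h')

theorem Four.one_of_ne_zero (h4 : Four F H.conj) {a : F} (h : H.conj a = a) (h0 : a ≠ 0) :
    a = 1 :=
  (h4.zero_or_one h).resolve_left h0

/-- A self-adjoint map with vanishing values `h y (N y)` on a subgroup vanishes on it. -/
theorem polarise (h4 : Four F H.conj) (N : V →ₗ[F] V)
    (hN : ∀ y z, H.h (N y) z = H.h y (N z)) {S : Submodule F V}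
    (h0 : ∀ y ∈ S, H.h y (N y) = 0) {y z : V} (hy : y ∈ S) (hz : z ∈ S) : H.h y (N z) = 0 := by
  obtain ⟨w, hw⟩ := h4.exists_omega
  have hsym : H.h z (N y) = H.conj (H.h y (N z)) := by rw [H.symm' y (N z), hN z y]
  have key : ∀ c : F, c * H.h y (N z) + H.conj (c * H.h y (N z)) = 0 := by
    intro c
    have h1 := h0 (c • y + z) (S.add_mem (S.smul_mem c hy) hz)
    simp only [map_add, map_smul, H.add_left, H.add_right, H.smul_left, H.smul_right, h0 y hy,
      h0 z hz, hsym, mul_zero, zero_add, add_zero] at h1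
    rw [map_mul]
    linear_combination h1
  have h1 := key 1
  have h2 := key w
  rw [one_mul] at h1
  rw [map_mul, h4.conj w] at h2
  linear_combination (w + 1) * h1 - h2 + H.conj (H.h y (N z)) * hw

/-- An isometric involution is trivial, a transvection, or has a witness. -/
theorem linear_trichotomy (h4 : Four F H.conj) (u : V →ₗ[F] V) (hu2 : ∀ x, u (u x) = x)
    (hu : ∀ x y, H.h (u x) (u y) = H.h x y) :
    (∀ x, u x = x) ∨ (∃ v, v ≠ 0 ∧ H.h v v = 0 ∧ ∀ x, u x = x + H.h x v • v) ∨
      HasWitness H u := by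
  obtain ⟨w, hw⟩ := h4.exists_omega
  have huadj : ∀ x y, H.h (u x) y = H.h x (u y) := fun x y => by rw [← hu x (u y), hu2]
  set N : V →ₗ[F] V := LinearMap.id + u with hNdef
  have hNx : ∀ x, N x = x + u x := fun x => rfl
  have huN : ∀ x, u x = x + N x := fun x => by rw [hNx, ← add_assoc, h4.vadd_self, zero_add]
  have hN : ∀ y z, H.h (N y) z = H.h y (N z) := fun y z => by
    rw [hNx, hNx, H.add_left, H.add_right, huadj]
  have hN2 : ∀ x, N (N x) = 0 := fun x => by
    rw [hNx (N x), hNx, map_add, hu2, add_comm (u x) x, h4.vadd_self]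
  have hNN : ∀ x y, H.h (N x) (N y) = 0 := fun x y => by rw [hN, hN2, H.zero_right]
  have hreal : ∀ y, H.conj (H.h y (N y)) = H.h y (N y) := fun y => by rw [H.symm', hN]
  have hmk : ∀ S : Submodule F V, (∀ y ∈ S, N y ∈ S) → (∃ y ∈ S, H.h y (N y) ≠ 0) →
      ∃ a ∈ S, H.h a a = 0 ∧ H.h a (N a) = 1 := by
    rintro S hS ⟨y, hy, hne⟩
    have h1 : H.h y (N y) = 1 := h4.one_of_ne_zero (hreal y) hne
    set l := H.h y y * w with hl
    refine ⟨y + l • N y, S.add_mem hy (S.smul_mem _ (hS y hy)), ?_, ?_⟩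
    · simp only [H.add_left, H.add_right, H.smul_left, H.smul_right, hNN, h1, H.h_comm_one h1,
        mul_zero, mul_one, add_zero]
      rw [hl, h4.conj]
      have hq : H.h y y ^ 2 = H.h y y := by rw [← h4.conj, H.conj_diag]
      linear_combination (w ^ 2) * hq + H.h y y * hw + H.h y y * (w + 1) * h4.two
    · simp only [map_add, map_smul, hN2, smul_zero, add_zero, H.add_left, H.smul_left, hNN,
        mul_zero, h1]
  by_cases hzero : ∀ y, H.h y (N y) = 0
  · refine Or.inl fun x => ?_
    rw [huN, show N x = 0 from H.nondeg _ fun z => ?_, add_zero]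
    rw [hN]
    exact polarise h4 N hN (S := ⊤) (fun y _ => hzero y) trivial trivial
  push Not at hzero
  obtain ⟨y, hy⟩ := hzero
  obtain ⟨a, -, haa, hav⟩ := hmk ⊤ (fun _ _ => trivial) ⟨y, trivial, hy⟩
  set v := N a with hvdef
  have hvv : H.h v v = 0 := hNN a a
  have hva : H.h v a = 1 := H.h_comm_one hav
  have hv0 : v ≠ 0 := fun h => by rw [h, H.zero_right] at hav; exact zero_ne_one hav
  set S : Submodule F V := LinearMap.ker (H.form a) ⊓ LinearMap.ker (H.form v) with hS
  have hmemS : ∀ z, z ∈ S ↔ H.h z a = 0 ∧ H.h z v = 0 := fun z => by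
    simp [hS]
  have hSN : ∀ z ∈ S, N z ∈ S := by
    intro z hz
    rw [hmemS] at hz ⊢
    refine ⟨?_, hNN z a⟩
    rw [hN]; exact hz.2
  by_cases hQ : ∀ z ∈ S, H.h z (N z) = 0
  · refine Or.inr (Or.inl ⟨v, hv0, hvv, fun x => ?_⟩)
    have hproj : ∀ x, x + H.h x v • a + H.h x a • v ∈ S := by
      intro x
      rw [hmemS]
      constructor
      · simp only [H.add_left, H.smul_left, haa, hva, mul_zero, mul_one, add_zero]
        exact h4.add_self _
      · simp only [H.add_left, H.smul_left, hav, hvv, mul_zero, mul_one, add_zero]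
        exact h4.add_self _
    have hker : ∀ z ∈ S, N z = 0 := by
      intro z hz
      refine H.nondeg _ fun t => ?_
      have h1 := polarise h4 N hN hQ hz (hproj t)
      simp only [map_add, map_smul, hN2, ← hvdef, H.add_right, H.smul_right, ((hmemS z).1 hz).2,
        mul_zero, add_zero, show N v = 0 from hN2 a, H.zero_right] at h1
      rw [hN]; exact h1
    have h1 := hker _ (hproj x)
    rw [map_add, map_add, map_smul, map_smul, ← hvdef, show N v = 0 from hN2 a, smul_zero,
      add_zero] at h1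
    rw [huN]
    congr 1
    calc N x = N x + (H.h x v • v + H.h x v • v) := by rw [h4.vadd_self, add_zero]
      _ = H.h x v • v := by rw [← add_assoc, h1, zero_add]
  push Not at hQ
  obtain ⟨a2, ha2S, ha22, hav2⟩ := hmk S hSN hQ
  set v2 := N a2 with hv2def
  obtain ⟨ha2a, ha2v⟩ := (hmemS a2).1 ha2S
  obtain ⟨hv2a, hv2v⟩ := (hmemS v2).1 (hSN a2 ha2S)
  have hv2v2 : H.h v2 v2 = 0 := hNN a2 a2
  have hv2a2 : H.h v2 a2 = 1 := H.h_comm_one hav2
  have haa2 := H.h_comm_zero ha2a
  have hva2 := H.h_comm_zero ha2v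
  have hav2' := H.h_comm_zero hv2a
  have hvv2 := H.h_comm_zero hv2v
  have e1 : u (a + a2) = a + a2 + (v + v2) := by
    rw [huN, map_add]
  have e2 : u (a + w • a2 + v) = a + w • a2 + v + (v + w • v2) := by
    rw [huN, map_add, map_add, map_smul, show N v = 0 from hN2 a, add_zero]
  have hw2 : H.conj w = w + 1 := by rw [h4.conj, hw]
  refine Or.inr (Or.inr ⟨a + a2, a + w • a2 + v, (w + 1) • (a + a2) + (v + v2), ?_⟩)
  rw [e1, e2]
  simp only [H.add_left, H.add_right, H.smul_left, H.smul_right, haa, hav, hva, hvv, ha22, hav2,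
    hv2a2, hv2v2, ha2a, ha2v, hv2a, hv2v, haa2, hva2, hav2', hvv2, hw2, map_add, map_one,
    mul_zero, zero_mul, mul_one, one_mul, add_zero, zero_add]
  have t := h4.two
  refine ⟨trivial, ?_, ?_, ?_, ?_, ?_, ?_, one_ne_zero, ?_, ?_, ?_, ?_, ?_, ?_, ?_⟩
  · linear_combination t
  · linear_combination (2 : F) * t
  · linear_combination (2 + w ^ 2 + w) * t
  · linear_combination (2 * w + 3) * t
  · linear_combination t
  · linear_combination hw + (w + 2) * t
  · intro h
    exact one_ne_zero (α := F) (by linear_combination hw - (w - 2) * (h - t))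
  · linear_combination t
  · linear_combination (w + 2) * t
  · linear_combination hw + (3 * w + 3) * t
  · linear_combination (w + 1) * t
  · intro h
    have := congrArg (fun z => H.h z v) h
    simp [H.add_left, hav, ha2v, H.zero_left] at this
  · intro c h
    have h1 := congrArg (fun z => H.h z v) h
    simp only [H.add_left, H.smul_left, hav, hvv, ha2v, hv2v, add_zero, mul_one] at h1
    rw [← h1, one_smul, add_eq_left] at h
    have h2 := congrArg (fun z => H.h z a) h
    simp [H.add_left, hva, hv2a, H.zero_left] at h2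

/-- Vectors orthogonal to a proper subspace with a prescribed value outside it. -/
theorem exists_dual_vec [Finite F] [FiniteDimensional F V] {S : Submodule F V} {k : V}
    (hk : k ∉ S) : ∃ x, (∀ s ∈ S, H.h x s = 0) ∧ H.h x k = 1 := by
  obtain ⟨φ, hφk, hφS⟩ := Submodule.exists_dual_map_eq_bot_of_notMem hk inferInstance
  have : Finite V := Module.finite_of_finite F
  let e : V ≃ₗ[F] Module.Dual F V := LinearEquiv.ofFinrankEq V _ Subspace.dual_finrank_eq.symm
  have hinj : Function.Injective fun y : V => e.symm (H.form y) := by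
    intro y z h
    have h' : H.form y = H.form z := e.symm.injective h
    refine sub_eq_zero.1 (H.nondeg _ fun t => ?_)
    rw [H.sub_left, ← H.symm' t y, ← H.symm' t z,
      show H.h t y = H.h t z from LinearMap.congr_fun h' t, sub_self]
  obtain ⟨x, hx⟩ := Finite.surjective_of_injective hinj (e.symm ((φ k)⁻¹ • φ))
  have hx' : ∀ t, H.h t x = (φ k)⁻¹ * φ t := fun t => LinearMap.congr_fun (e.symm.injective hx) t
  refine ⟨x, fun s hs => H.h_comm_zero ?_, H.h_comm_one ?_⟩
  · have : φ s ∈ Submodule.map φ S := ⟨s, hs, rfl⟩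
    rw [hφS, Submodule.mem_bot] at this
    rw [hx', this, mul_zero]
  · rw [hx', inv_mul_cancel₀ hφk]

/-- A semilinear involution with the field automorphism has a witness in dimension six. -/
theorem semilinear_witness [Finite F] [FiniteDimensional F V] (hd : finrank F V = 6)
    (h4 : Four F H.conj) (M : V →+ V) (hM : ∀ (c : F) x, M (c • x) = c ^ 2 • M x)
    (hM2 : ∀ x, M (M x) = x) (hMh : ∀ x y, H.h (M x) (M y) = H.h x y ^ 2) :
    HasWitness H M := by
  classical
  obtain ⟨w, hw⟩ := h4.exists_omega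
  have hw2 : H.conj w = w + 1 := by rw [h4.conj, hw]
  have hMadj : ∀ x y, H.h (M x) y = H.conj (H.h x (M y)) := fun x y => by
    rw [h4.conj, ← hMh, hM2]
  let φ : V →ₗ[F] F :=
    { toFun := fun x => H.h (M x) x
      map_add' := fun x y => by
        have h1 : H.h (M y) x = H.h (M x) y := by rw [hMadj x y, H.symm']
        rw [map_add, H.add_left, H.add_right, H.add_right, h1]
        linear_combination H.h (M x) y * h4.two
      map_smul' := fun c x => by
        simp only [hM, H.smul_left, H.smul_right, h4.conj, RingHom.id_apply, smul_eq_mul]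
        linear_combination H.h (M x) x * h4.quart c }
  have : Finite V := Module.finite_of_finite F
  let e : V ≃ₗ[F] Module.Dual F V := LinearEquiv.ofFinrankEq V _ Subspace.dual_finrank_eq.symm
  have hinj : Function.Injective fun y : V => e.symm (H.form y) := by
    intro y z h
    have h' : H.form y = H.form z := e.symm.injective h
    refine sub_eq_zero.1 (H.nondeg _ fun t => ?_)
    rw [H.sub_left, ← H.symm' t y, ← H.symm' t z,
      show H.h t y = H.h t z from LinearMap.congr_fun h' t, sub_self]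
  obtain ⟨d, hd'⟩ := Finite.surjective_of_injective hinj (e.symm φ)
  have hφ : ∀ x, H.h x d = H.h (M x) x := fun x => LinearMap.congr_fun (e.symm.injective hd') x
  have hfix : ∀ p q, M p = p → M q = q → H.conj (H.h p q) = H.h p q := fun p q hp hq => by
    rw [h4.conj, ← hMh, hp, hq]
  -- the fixed components of a vector orthogonal to `d` and to fixed vectors
  have split : ∀ (L : Finset V), (∀ l ∈ L, M l = l) → ∀ x,
      (∀ s ∈ Submodule.span F (insert d ↑L : Set V), H.h x s = 0) → ∃ p q, x = p + w • q ∧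
        (M p = p ∧ H.h p p = 0 ∧ H.h p d = 0 ∧ ∀ l ∈ L, H.h p l = 0) ∧
        (M q = q ∧ H.h q q = 0 ∧ H.h q d = 0 ∧ ∀ l ∈ L, H.h q l = 0) := by
    intro L hL x hxS
    set q := x + M x with hq
    set p := x + w • q with hp
    have hfq : M q = q := by rw [hq, map_add, hM2, add_comm]
    have hfp : M p = p := by
      rw [hp, map_add, hM, hfq, hw, add_smul, one_smul,
        show M x = x + q by rw [hq, ← add_assoc, h4.vadd_self, zero_add]]
      calc x + q + (w • q + q) = x + w • q + (q + q) := by abel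
        _ = _ := by rw [h4.vadd_self, add_zero]
    have hx : x = p + w • q := by rw [hp, add_assoc, h4.vadd_self, add_zero]
    have hsplit : ∀ l, H.conj (H.h p l) = H.h p l → H.conj (H.h q l) = H.h q l →
        H.h x l = 0 → H.h p l = 0 ∧ H.h q l = 0 := by
      intro l h1 h2 h0
      rw [hx, H.add_left, H.smul_left] at h0
      rcases h4.zero_or_one h2 with e | e
      · rw [e, mul_zero, add_zero] at h0; exact ⟨h0, e⟩
      · exfalso
        rw [e, mul_one] at h0
        rcases h4.zero_or_one h1 with e' | e' <;> rw [e'] at h0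
        · exact one_ne_zero (α := F) (by linear_combination (w - 1) * h0 - hw)
        · exact one_ne_zero (α := F) (by linear_combination w * h0 - hw - w * h4.two)
    have hφfix : ∀ t, M t = t → H.conj (H.h t d) = H.h t d := fun t ht => by
      rw [hφ, ht, H.conj_diag]
    obtain ⟨hpd, hqd⟩ := hsplit d (hφfix _ hfp) (hφfix _ hfq)
      (hxS d (Submodule.subset_span (Set.mem_insert _ _)))
    have hL' : ∀ l ∈ L, H.h p l = 0 ∧ H.h q l = 0 := fun l hl =>
      hsplit l (hfix _ _ hfp (hL l hl)) (hfix _ _ hfq (hL l hl))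
        (hxS l (Submodule.subset_span (Set.mem_insert_of_mem _ hl)))
    exact ⟨p, q, hx, ⟨hfp, by rwa [hφ, hfp] at hpd, hpd, fun l hl => (hL' l hl).1⟩,
      hfq, by rwa [hφ, hfq] at hqd, hqd, fun l hl => (hL' l hl).2⟩
  have core : ∀ (L : Finset V), (∀ l ∈ L, M l = l) → ∀ k,
      k ∉ Submodule.span F (insert d ↑L : Set V) →
      (∃ p, M p = p ∧ H.h p p = 0 ∧ H.h p d = 0 ∧ (∀ l ∈ L, H.h p l = 0) ∧ H.h p k ≠ 0) ∧
      (M k = k → ∃ p, M p = p ∧ H.h p p = 0 ∧ H.h p d = 0 ∧ (∀ l ∈ L, H.h p l = 0) ∧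
        H.h p k = 1) := by
    intro L hL k hk
    obtain ⟨x, hxS, hxk⟩ := exists_dual_vec (H := H) hk
    obtain ⟨p, q, hx, ⟨hfp, hpp, hpd, hpL⟩, hfq, hqq, hqd, hqL⟩ := split L hL x hxS
    rw [hx, H.add_left, H.smul_left] at hxk
    constructor
    · by_cases h2 : H.h q k = 0
      · refine ⟨p, hfp, hpp, hpd, hpL, ?_⟩
        rw [h2, mul_zero, add_zero] at hxk
        rw [hxk]; exact one_ne_zero
      · exact ⟨q, hfq, hqq, hqd, hqL, h2⟩
    · intro hk'
      refine ⟨p, hfp, hpp, hpd, hpL, ?_⟩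
      rcases h4.zero_or_one (hfix p k hfp hk') with e1 | e1
      · exfalso
        rcases h4.zero_or_one (hfix q k hfq hk') with e2 | e2 <;> rw [e1, e2] at hxk
        · exact one_ne_zero (α := F) (by linear_combination -hxk)
        · exact one_ne_zero (α := F) (by linear_combination w * hxk - hw)
      · exact e1
  have hlt : ∀ K : Finset V, K.card ≤ 5 → ∃ k, k ∉ Submodule.span F (↑K : Set V) := by
    intro K hK
    by_contra! hall
    have htop : Submodule.span F (↑K : Set V) = ⊤ := eq_top_iff.2 fun z _ => hall z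
    have := finrank_span_finset_le_card (R := F) K
    rw [Set.finrank, htop, finrank_top, hd] at this
    omega
  -- such vectors outside the line of `d`
  have ext : ∀ (L : Finset V), (∀ l ∈ L, M l = l) → L.card ≤ 3 →
      ∃ p, M p = p ∧ H.h p p = 0 ∧ H.h p d = 0 ∧ (∀ l ∈ L, H.h p l = 0) ∧
        p ∉ Submodule.span F ({d} : Set V) := by
    intro L hL hcard
    have hc := Finset.card_insert_le d L
    obtain ⟨k₁, hk₁⟩ := hlt (insert d L) (by omega)
    rw [Finset.coe_insert] at hk₁
    obtain ⟨r, hr, hrr, hrd, hrL, hrk⟩ := (core L hL k₁ hk₁).1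
    by_cases hrspan : r ∈ Submodule.span F ({d} : Set V)
    swap
    · exact ⟨r, hr, hrr, hrd, hrL, hrspan⟩
    obtain ⟨k₂, hk₂⟩ := hlt (insert k₁ (insert d L)) ((Finset.card_insert_le _ _).trans (by omega))
    obtain ⟨x, hxS, hxk⟩ := exists_dual_vec (H := H) hk₂
    obtain ⟨p, q, hx, ⟨hfp, hpp, hpd, hpL⟩, hfq, hqq, hqd, hqL⟩ := split L hL x fun s hs =>
      hxS s (Submodule.span_mono (by simp) hs)
    have hne : ¬ (p ∈ Submodule.span F ({d} : Set V) ∧ q ∈ Submodule.span F ({d} : Set V)) := by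
      rintro ⟨h1, h2⟩
      have hxd : x ∈ Submodule.span F ({d} : Set V) := by
        rw [hx]; exact add_mem h1 (Submodule.smul_mem _ _ h2)
      obtain ⟨c, hc⟩ := Submodule.mem_span_singleton.1 hxd
      obtain ⟨c', hc'⟩ := Submodule.mem_span_singleton.1 hrspan
      have hxk1 : H.h x k₁ = 0 := hxS k₁ (Submodule.subset_span (by simp))
      rw [← hc, H.smul_left] at hxk1
      rw [← hc', H.smul_left] at hrk
      rcases mul_eq_zero.1 hxk1 with h0 | h0
      · rw [← hc, h0, zero_smul, H.zero_left] at hxk; exact zero_ne_one hxk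
      · exact hrk (by rw [h0, mul_zero])
    by_cases h1 : p ∈ Submodule.span F ({d} : Set V)
    · exact ⟨q, hfq, hqq, hqd, hqL, fun h2 => hne ⟨h1, h2⟩⟩
    · exact ⟨p, hfp, hpp, hpd, hpL, h1⟩
  obtain ⟨e₁, he₁, he₁₁, he₁d, -, he₁s⟩ := ext ∅ (by simp) (by simp)
  obtain ⟨f₁, hf₁, hf₁₁, hf₁d, -, hf₁e⟩ := (core ∅ (by simp) e₁ (by simpa using he₁s)).2 he₁
  obtain ⟨k, hk, hkk, hkd, hkL, hks⟩ := ext {e₁, f₁} (by simp [he₁, hf₁])
    (Finset.card_le_two.trans (by norm_num))
  have hke : H.h k e₁ = 0 := hkL e₁ (by simp)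
  have hkf : H.h k f₁ = 0 := hkL f₁ (by simp)
  have hef : H.h e₁ f₁ = 1 := H.h_comm_one hf₁e
  have hkspan : k ∉ Submodule.span F (insert d ↑({e₁, f₁} : Finset V) : Set V) := by
    intro h
    rw [Submodule.mem_span_insert] at h
    obtain ⟨c, z, hz, rfl⟩ := h
    rw [Finset.coe_insert, Finset.coe_singleton, Submodule.mem_span_pair] at hz
    obtain ⟨α, β, rfl⟩ := hz
    simp only [H.add_left, H.smul_left, H.h_comm_zero he₁d, H.h_comm_zero hf₁d, he₁₁, hf₁₁, hf₁e,
      hef, mul_zero, mul_one, zero_add, add_zero] at hke hkf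
    refine hks ?_
    rw [hke, hkf]
    simp [Submodule.mem_span_singleton]
  obtain ⟨u₂, hu₂, hu₂₂, hu₂d, hu₂L, hu₂k⟩ :=
    (core {e₁, f₁} (by simp [he₁, hf₁]) k hkspan).2 hk
  have hu₂e : H.h u₂ e₁ = 0 := hu₂L e₁ (by simp)
  have hu₂f : H.h u₂ f₁ = 0 := hu₂L f₁ (by simp)
  obtain ⟨k₃, hk₃⟩ := hlt (insert d {e₁, f₁, k, u₂})
    ((Finset.card_insert_le _ _).trans (Nat.add_le_add_right Finset.card_le_four 1))
  rw [Finset.coe_insert] at hk₃
  obtain ⟨e₂, he₂, he₂₂, -, he₂L, he₂k⟩ :=
    (core {e₁, f₁, k, u₂} (by simp [he₁, hf₁, hk, hu₂]) k₃ hk₃).1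
  have he₂e : H.h e₂ e₁ = 0 := he₂L e₁ (by simp)
  have he₂f : H.h e₂ f₁ = 0 := he₂L f₁ (by simp)
  have he₂kk : H.h e₂ k = 0 := he₂L k (by simp)
  have he₂u : H.h e₂ u₂ = 0 := he₂L u₂ (by simp)
  have hee₂ := H.h_comm_zero he₂e
  have hfe₂ := H.h_comm_zero he₂f
  have hke₂ := H.h_comm_zero he₂kk
  have hue₂ := H.h_comm_zero he₂u
  have hek := H.h_comm_zero hke
  have hfk := H.h_comm_zero hkf
  have heu := H.h_comm_zero hu₂e
  have hfu := H.h_comm_zero hu₂f
  have hku : H.h k u₂ = 1 := H.h_comm_one hu₂k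
  have E1 : M (e₁ + w • e₂) = e₁ + (w + 1) • e₂ := by rw [map_add, hM, he₁, he₂, hw]
  have E2 : M (f₁ + w • k) = f₁ + (w + 1) • k := by rw [map_add, hM, hf₁, hk, hw]
  refine ⟨e₁ + w • e₂, f₁ + w • k, w • e₁ + u₂, ?_⟩
  rw [E1, E2]
  simp only [H.add_left, H.add_right, H.smul_left, H.smul_right, he₁₁, hf₁₁, hkk, hu₂₂, he₂₂,
    hef, hf₁e, hke, hkf, hu₂e, hu₂f, hu₂k, hku, he₂e, he₂f, he₂kk, he₂u, hee₂, hfe₂, hke₂, hue₂,
    hek, hfk, heu, hfu, hw2, map_add, map_one, mul_zero, zero_mul, mul_one, one_mul, add_zero,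
    zero_add]
  refine ⟨trivial, trivial, trivial, trivial, trivial, trivial, trivial, one_ne_zero, one_ne_zero,
    trivial, trivial, ?_, ?_, ?_, ?_⟩
  · linear_combination (w + 1) * h4.two
  · linear_combination w * h4.two
  · intro h
    have := congrArg (fun z => H.h z f₁) h
    simp [H.add_left, H.smul_left, hef, he₂f, H.zero_left] at this
  · intro c h
    have h1 := congrArg (fun z => H.h z f₁) h
    simp only [H.add_left, H.smul_left, hef, he₂f, mul_zero, add_zero, mul_one] at h1
    rw [← h1, one_smul, add_right_inj, add_smul, one_smul, add_eq_left] at h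
    exact he₂k (by rw [h, H.zero_left])

end CfsgLib.FischerUnique
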