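import Cfsg.Agent.Lib.FischerUnique.Step

set_option autoImplicit false

/-! Rigidity for the types M(22), M(23), M(24), given it for the unitary group. -/

namespace CfsgLib.FischerUnique

open Subgroup
open CfsgLib.ThreeTrans (link)
open CfsgLib.FischerType

universe u

/-- Rigidity of the classes with image the projective unitary group. -/
def UnitaryRigid : Prop :=
  ∀ (G : Type u) [Group G] [Finite G] (D : Set G), Setting D → ∀ d ∈ D,
    ∀ (F : Type) [Field F] [Fintype F], Fintype.card F = 4 →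
      Nonempty (Quot D d ≃* Cfsg.PSU 6 F 2) → Rigid (img D d)

variable {G : Type u} [Group G] [Finite G] {D : Set G}

theorem rigid_of_typeM22 (hB : UnitaryRigid.{u}) (S : Setting D) (h : Cfsg.IsOfTypeM22 G D) :
    Rigid D := by
  have htf := S.linkTwinFree_of_typeM22 h
  obtain ⟨-, d, hd, c, hc, hdc, ⟨F, i1, i2, hF, he⟩, c₃, hc₃, hproj⟩ := h
  exact rigid_step S hd hc hdc (not_solvable_of_isProj (by norm_num) hc₃ hproj)
    (pair_of_nontrivial (he.elim fun e => isSimpleGroup_of_psu hF e).toNontrivial) (htf d hd)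
    (hB G D S d hd F hF he)

theorem rigid_of_typeM23 (hB : UnitaryRigid.{u}) (S : Setting D) (h : Cfsg.IsOfTypeM23 G D) :
    Rigid D := by
  have htf := S.linkTwinFree_of_typeM23 h
  obtain ⟨-, d, hd, c, hc, hdc, h22, c₃, hc₃, hproj⟩ := h
  have hns := not_solvable_of_isProj (by norm_num) hc₃ hproj
  exact rigid_step S hd hc hdc hns (pair_of_typeM22_img h22) (htf d hd)
    (rigid_of_typeM22 hB (imgSetting S hd hc hdc hns h22) h22)

theorem rigid_of_typeM24 (hB : UnitaryRigid.{u}) (S : Setting D) (h : Cfsg.IsOfTypeM24 G D)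
    {d₀ : G} (hd₀ : d₀ ∈ D)
    (h3 : Cfsg.pCore 3 ↥(closure (link D d₀)) ≤ center ↥(closure (link D d₀)))
    (h2 : Cfsg.pCore 2 ↥(closure (link D d₀)) ≤ center ↥(closure (link D d₀))) : Rigid D := by
  obtain ⟨-, d, hd, c, hc, hdc, h23, N, hN, ⟨eN⟩, -⟩ := h
  have hns := not_solvable_of_typeM24_data eN
  have hpair := pair_of_typeM23_img h23
  have SX := S.quotSetting hd hc hdc hpair hns (pCore_link_le_center S.cls hd₀ hd h2)
    (pCore_link_le_center S.cls hd₀ hd h3) h23.1
  exact rigid_step S hd hc hdc hns hpair (S.linkTwinFree_of_img hd hpair SX.eq_of_sameComm)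
    (rigid_of_typeM23 hB SX h23)

end CfsgLib.FischerUnique
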