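import Cfsg.Agent.Lib.FischerType.Line

set_option autoImplicit false

/-! Two hexads of transvections through three points of a totally isotropic plane. -/

namespace CfsgLib.FischerUnique

open CfsgLib.Classical.Herm HermSpace CfsgLib.UnitaryTransv
open CfsgLib.FischerType.U6 (ptv tvSet ptv_mem ne_ptv commute_ptv proj h_six exists_not_zero_one)

variable {F : Type*} [Field F] [Fintype F]

set_option maxHeartbeats 1000000 in
/-- Three transvections with two complementary triples giving product one. -/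
theorem exists_two_hexads (hF : Fintype.card F = 2 ^ 2) :
    ∃ a b c p q r p' q' r', (∀ x ∈ [a, b, c, p, q, r, p', q', r'], x ∈ tvSet hF (n := 6)) ∧
      (∀ x ∈ [a, b, c, p, q, r, p', q', r'], ∀ y ∈ [a, b, c, p, q, r, p', q', r'], Commute x y) ∧
      [a, b, c].Nodup ∧ [p, q, r].Nodup ∧ [p', q', r'].Nodup ∧ p ∉ [a, b, c] ∧ p' ∉ [a, b, c] ∧
      p ∉ [p', q', r'] ∧ a * b * c * p * q * r = 1 ∧ a * b * c * p' * q' * r' = 1 := by
  obtain ⟨w, hw0, hw1⟩ := exists_not_zero_one hF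
  have h2 := two_eq_zero hF
  have hw : w ^ 2 = w + 1 := by
    have hw3 := CfsgLib.UnitaryTransv.pow_three hF hw0
    have : (w - 1) * (w ^ 2 + w + 1) = 0 := by linear_combination hw3
    linear_combination (mul_eq_zero.1 this).resolve_left (sub_ne_zero.2 hw1) - (w + 1) * h2
  let u : F → F → F → Fin 6 → F := fun x y z => ![x, x, y, y, z, z]
  have hu : ∀ x y z x' y' z', (stdHerm hF 6).h (u x y z) (u x' y' z') = 0 := fun x y z x' y' z' => by
    rw [h_six]; simp [u]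
    linear_combination (x * x' ^ 2 + y * y' ^ 2 + z * z' ^ 2) * h2
  let t : F → F → F → Cfsg.PSU 6 F 2 := fun x y z => ptv hF (u x y z) (hu x y z x y z)
  have hmem : ∀ x y z, (x = 1 ∨ y = 1 ∨ z = 1) → t x y z ∈ tvSet hF (n := 6) := by
    intro x y z h
    refine ptv_mem hF _ fun h0 => ?_
    rcases h with h | h | h <;> subst h
    · simpa [u] using congrFun h0 0
    · simpa [u] using congrFun h0 2
    · simpa [u] using congrFun h0 4
  have hcomm : ∀ x y z x' y' z', Commute (t x y z) (t x' y' z') := fun x y z x' y' z' =>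
    commute_ptv hF _ _ (hu _ _ _ _ _ _)
  have sep : ∀ (l₁ l₂ l₃ : F) x y z x' y' z',
      l₁ * l₁ ^ 2 + l₂ * l₂ ^ 2 + l₃ * l₃ ^ 2 = 0 → l₂ = 1 ∨ l₃ = 1 →
      l₁ * x ^ 2 + l₂ * y ^ 2 + l₃ * z ^ 2 = 0 →
      l₁ * x' ^ 2 + l₂ * y' ^ 2 + l₃ * z' ^ 2 ≠ 0 → t x y z ≠ t x' y' z' := by
    intro l₁ l₂ l₃ x y z x' y' z' hl hl1 h h'
    refine ne_ptv hF _ _ (y := ![l₁, 0, l₂, 0, l₃, 0]) ?_ ?_ ?_ ?_
    · rw [h_six]; simpa using hl
    · intro h0
      rcases hl1 with h1 | h1 <;> subst h1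
      · simpa using congrFun h0 2
      · simpa using congrFun h0 4
    · rw [h_six]; simpa [u] using h
    · rw [h_six]; simpa [u] using h'
  have key : ∀ x₁ y₁ z₁ x₂ y₂ z₂ x₃ y₃ z₃ : F,
      (∀ A B C : F,
        A + (x₁ ^ 2 * A + y₁ ^ 2 * B + z₁ ^ 2 * C) * x₁ + (x₂ ^ 2 * A + y₂ ^ 2 * B + z₂ ^ 2 * C) * x₂ +
          (x₃ ^ 2 * A + y₃ ^ 2 * B + z₃ ^ 2 * C) * x₃ = 0 ∧
        B + (x₁ ^ 2 * A + y₁ ^ 2 * B + z₁ ^ 2 * C) * y₁ + (x₂ ^ 2 * A + y₂ ^ 2 * B + z₂ ^ 2 * C) * y₂ +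
          (x₃ ^ 2 * A + y₃ ^ 2 * B + z₃ ^ 2 * C) * y₃ = 0 ∧
        C + (x₁ ^ 2 * A + y₁ ^ 2 * B + z₁ ^ 2 * C) * z₁ + (x₂ ^ 2 * A + y₂ ^ 2 * B + z₂ ^ 2 * C) * z₂ +
          (x₃ ^ 2 * A + y₃ ^ 2 * B + z₃ ^ 2 * C) * z₃ = 0) →
      t 1 0 0 * t 0 1 0 * t 0 0 1 * t x₁ y₁ z₁ * t x₂ y₂ z₂ * t x₃ y₃ z₃ = 1 := by
    intro x₁ y₁ z₁ x₂ y₂ z₂ x₃ y₃ z₃ hrel
    simp only [t, ptv, ← map_mul]
    rw [← map_one (proj hF (n := 6))]
    refine congrArg _ (Subtype.ext (unit_ext fun v => ?_))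
    simp only [Subgroup.coe_mul, LinearEquiv.mul_apply, CfsgLib.Classical.Herm.mul_apply, LinearEquiv.coe_one, id_eq, OneMemClass.coe_one,
      CfsgLib.Classical.Herm.one_apply, tv_apply, (stdHerm hF 6).add_left, (stdHerm hF 6).smul_left,
      hu, mul_zero, add_zero]
    simp only [h_six]
    obtain ⟨e1, e2, e3⟩ := hrel (v 0 + v 1) (v 2 + v 3) (v 4 + v 5)
    ext i
    fin_cases i <;> simp [u, Matrix.vecHead, Matrix.vecTail]
    · linear_combination e1
    · linear_combination e1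
    · linear_combination e2
    · linear_combination e2
    · linear_combination e3
    · linear_combination e3
  refine ⟨t 1 0 0, t 0 1 0, t 0 0 1, t 1 1 1, t 1 w (w + 1), t 1 (w + 1) w, t 1 1 w, t 1 w 1,
    t 1 (w + 1) (w + 1), ?_, ?_, ?_, ?_, ?_, ?_, ?_, ?_, key _ _ _ _ _ _ _ _ _ fun A B C => ?_,
    key _ _ _ _ _ _ _ _ _ fun A B C => ?_⟩
  · simp only [List.forall_mem_cons, List.not_mem_nil, IsEmpty.forall_iff, implies_true, and_true]
    refine ⟨hmem _ _ _ (.inl rfl), hmem _ _ _ (.inr (.inl rfl)), hmem _ _ _ (.inr (.inr rfl)), ?_⟩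
    exact ⟨hmem _ _ _ (.inl rfl), hmem _ _ _ (.inl rfl), hmem _ _ _ (.inl rfl),
      hmem _ _ _ (.inl rfl), hmem _ _ _ (.inl rfl), hmem _ _ _ (.inl rfl)⟩
  · intro x hx y hy
    simp only [List.mem_cons, List.not_mem_nil, or_false] at hx hy
    rcases hx with rfl | rfl | rfl | rfl | rfl | rfl | rfl | rfl | rfl <;>
      rcases hy with rfl | rfl | rfl | rfl | rfl | rfl | rfl | rfl | rfl <;> exact hcomm _ _ _ _ _ _
  all_goals try simp only [List.nodup_cons, List.mem_cons, List.not_mem_nil, or_false, not_or,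
    List.nodup_nil, and_true, not_false_eq_true]
  · refine ⟨⟨sep 0 1 1 _ _ _ _ _ _ ?_ (.inl rfl) ?_ ?_, sep 0 1 1 _ _ _ _ _ _ ?_ (.inl rfl) ?_ ?_⟩,
      sep 1 0 1 _ _ _ _ _ _ ?_ (.inr rfl) ?_ ?_⟩ <;>
    first
    | linear_combination (0 : F)
    | linear_combination h2
    | exact fun h => one_ne_zero (α := F) (by linear_combination h)
  · refine ⟨⟨sep 1 1 0 _ _ _ _ _ _ ?_ (.inl rfl) ?_ ?_, sep 1 1 0 _ _ _ _ _ _ ?_ (.inl rfl) ?_ ?_⟩,
      sep (w + 1) 1 0 _ _ _ _ _ _ ?_ (.inl rfl) ?_ ?_⟩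
    · linear_combination h2
    · linear_combination h2
    · exact fun h => hw0 (by linear_combination h - hw - h2)
    · linear_combination h2
    · linear_combination h2
    · exact fun h => hw1 (by linear_combination -h + hw + (2 * w + 1) * h2)
    · linear_combination (w + 4) * hw + (4 * w + 3) * h2
    · linear_combination hw + (w + 1) * h2
    · exact fun h => one_ne_zero (α := F) (by linear_combination h - hw - (2 * w + 1) * h2)
  · refine ⟨⟨sep 1 1 0 _ _ _ _ _ _ ?_ (.inl rfl) ?_ ?_, sep 1 1 0 _ _ _ _ _ _ ?_ (.inl rfl) ?_ ?_⟩,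
      sep 1 0 1 _ _ _ _ _ _ ?_ (.inr rfl) ?_ ?_⟩
    · linear_combination h2
    · linear_combination h2
    · exact fun h => hw0 (by linear_combination h - hw - h2)
    · linear_combination h2
    · linear_combination h2
    · exact fun h => hw1 (by linear_combination -h + hw + (2 * w + 1) * h2)
    · linear_combination h2
    · linear_combination h2
    · exact fun h => hw1 (by linear_combination -h + hw + (2 * w + 1) * h2)
  · refine ⟨sep 1 1 0 _ _ _ _ _ _ ?_ (.inl rfl) ?_ ?_, sep 1 1 0 _ _ _ _ _ _ ?_ (.inl rfl) ?_ ?_,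
      sep 1 0 1 _ _ _ _ _ _ ?_ (.inr rfl) ?_ ?_⟩ <;>
    first
    | linear_combination h2
    | exact fun h => one_ne_zero (α := F) (by linear_combination h)
  · refine ⟨sep 1 1 0 _ _ _ _ _ _ ?_ (.inl rfl) ?_ ?_, sep 1 1 0 _ _ _ _ _ _ ?_ (.inl rfl) ?_ ?_,
      sep (w + 1) 0 1 _ _ _ _ _ _ ?_ (.inr rfl) ?_ ?_⟩
    · linear_combination h2
    · linear_combination h2
    · exact fun h => one_ne_zero (α := F) (by linear_combination h)
    · linear_combination h2
    · linear_combination h2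
    · exact fun h => one_ne_zero (α := F) (by linear_combination h)
    · linear_combination (w + 4) * hw + (4 * w + 3) * h2
    · linear_combination hw + (w + 1) * h2
    · exact fun h => one_ne_zero (α := F) (by linear_combination h)
  · refine ⟨sep 1 0 1 _ _ _ _ _ _ ?_ (.inr rfl) ?_ ?_, sep 1 1 0 _ _ _ _ _ _ ?_ (.inl rfl) ?_ ?_,
      sep 1 1 0 _ _ _ _ _ _ ?_ (.inl rfl) ?_ ?_⟩
    · linear_combination h2
    · linear_combination h2
    · exact fun h => hw0 (by linear_combination h - hw - h2)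
    · linear_combination h2
    · linear_combination h2
    · exact fun h => hw0 (by linear_combination h - hw - h2)
    · linear_combination h2
    · linear_combination h2
    · exact fun h => hw1 (by linear_combination -h + hw + (2 * w + 1) * h2)
  · refine ⟨?_, ?_, ?_⟩
    · linear_combination (2 * C + 2 * B) * hw + (2 * C + 2 * B + 2 * A + 2 * w * C + 2 * w * B) * h2
    · linear_combination (5 * C + 5 * B + 2 * w * C + 2 * w * B) * hw + (3 * C + 4 * B + 1 * A + 4 * w * C + 5 * w * B + 1 * w * A) * h2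
    · linear_combination (5 * C + 5 * B + 2 * w * C + 2 * w * B) * hw + (4 * C + 3 * B + 1 * A + 5 * w * C + 4 * w * B + 1 * w * A) * h2
  · refine ⟨?_, ?_, ?_⟩
    · linear_combination (2 * C + 2 * B) * hw + (2 * C + 2 * B + 2 * A + 2 * w * C + 2 * w * B) * h2
    · linear_combination (5 * C + 5 * B + 1 * w * C + 2 * w * B) * hw + (3 * C + 4 * B + 1 * A + 5 * w * C + 5 * w * B + 1 * w * A) * h2
    · linear_combination (5 * C + 5 * B + 2 * w * C + 1 * w * B) * hw + (4 * C + 3 * B + 1 * A + 5 * w * C + 5 * w * B + 1 * w * A) * h2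

end CfsgLib.FischerUnique
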